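import Groth.Agent.DerCompSec.Alg
import Groth.Agent.SiteMod.ExtZero
import Groth.Agent.ModGroth.FreeOn
import Groth.Agent.TriH.DerivedProducts
import Groth.Agent.TriH.KInjExist
import Groth.Agent.DerCompRHom.Away
import Groth.Prelude.Def_DerComp

/-!
# Derived completeness read off on sections of a K-injective complex
-/

set_option autoImplicit false

universe u v w

open CategoryTheory CategoryTheory.Limits Opposite HomologicalComplex

attribute [local instance] HasDerivedCategory.standard

namespace Groth.Agent.DerCompSec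

section Generic

variable {A : Type w} [Category.{v} A] [Abelian A]

/-- Morphisms from a single object to all shifts of a K-injective complex vanish iff cocycles lift. -/
lemma subsingleton_single_iff (I : CochainComplex A ℤ) [I.IsKInjective] (X : A) :
    (∀ n : ℤ, Subsingleton ((DerivedCategory.singleFunctor A 0).obj X ⟶ (DerivedCategory.Q.obj I)⟦n⟧)) ↔
      ∀ (i j k : ℤ), i + 1 = j → j + 1 = k → ∀ g : X ⟶ I.X j, g ≫ I.d j k = 0 →
        ∃ h : X ⟶ I.X i, h ≫ I.d i j = g := by
  have e : ∀ n : ℤ, ((DerivedCategory.singleFunctor A 0).obj X ⟶ (DerivedCategory.Q.obj I)⟦n⟧) ≃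
      (DerivedCategory.Q.obj ((CochainComplex.singleFunctor A n).obj X) ⟶ DerivedCategory.Q.obj I) := fun n =>
    ((((DerivedCategory.singleFunctors A).shiftIso n 0 n (add_zero n)).app X).symm.homFromEquiv).trans
      ((Functor.FullyFaithful.ofFullyFaithful (shiftFunctor (DerivedCategory A) n)).homEquiv.symm.trans
        ((DerivedCategory.singleFunctorIsoCompQ A n).app X).homFromEquiv)
  constructor
  · intro h i j k hij hjk g hg
    let f : (CochainComplex.singleFunctor A j).obj X ⟶ I :=
      mkHomFromSingle g fun k' hk' => by obtain rfl : k' = k := (show j + 1 = k' from hk').symm.trans hjk; exact hg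
    obtain ⟨H⟩ := (TriH.Q_map_eq_zero_iff_of_isKInjective f).1
      ((e j).symm.injective ((h j).elim _ _))
    let ι : X ⟶ ((CochainComplex.singleFunctor A j).obj X).X j := (singleObjXSelf (ComplexShape.up ℤ) j X).inv
    refine ⟨ι ≫ H.hom j i, ?_⟩
    have h1 : (((CochainComplex.singleFunctor A j).obj X).d j k) = 0 := by
      exact ((isZero_single_obj_X (ComplexShape.up ℤ) j X k (by omega))).eq_of_tgt _ _
    have h2 := H.comm j
    rw [dNext_eq _ (show (ComplexShape.up ℤ).Rel j k from hjk), prevD_eq _ (show (ComplexShape.up ℤ).Rel i j from hij),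
      h1, zero_comp, zero_add, zero_f, add_zero] at h2
    rw [Category.assoc, ← h2]
    change ι ≫ f.f j = g
    exact ((congrArg (ι ≫ ·) (mkHomFromSingle_f g _)).trans (Iso.inv_hom_id_assoc _ _))
  · intro h n
    refine (e n).subsingleton_congr.2 ⟨fun a b => ?_⟩
    suffices hz : ∀ a : DerivedCategory.Q.obj ((CochainComplex.singleFunctor A n).obj X) ⟶ DerivedCategory.Q.obj I,
        a = 0 by rw [hz a, hz b]
    clear a b
    intro a
    obtain ⟨f, rfl⟩ := TriH.Q_map_surjective_of_isKInjective _ I a
    let ι : X ⟶ ((CochainComplex.singleFunctor A n).obj X).X n := (singleObjXSelf (ComplexShape.up ℤ) n X).inv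
    let g := ι ≫ f.f n
    have hg : g ≫ I.d n (n + 1) = 0 := by
      have h1 : ((CochainComplex.singleFunctor A n).obj X).d n (n + 1) = 0 :=
        (isZero_single_obj_X (ComplexShape.up ℤ) n X (n + 1) (by omega)).eq_of_tgt _ _
      rw [Category.assoc, f.comm, h1, zero_comp, comp_zero]
    obtain ⟨w, hw⟩ := h (n - 1) n (n + 1) (by omega) rfl g hg
    rw [TriH.Q_map_eq_zero_iff_of_isKInjective]
    refine ⟨(CochainComplex.HomComplex.Cochain.equivHomotopy f 0).symm
      ⟨CochainComplex.HomComplex.Cochain.fromSingleMk w (show n + (-1) = n - 1 by omega), ?_⟩⟩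
    rw [CochainComplex.HomComplex.Cochain.δ_fromSingleMk _ _ 0 n (by omega), hw,
      CochainComplex.HomComplex.Cochain.ofHom_zero, add_zero]
    refine CochainComplex.HomComplex.Cochain.ext _ _ fun p q hpq => ?_
    obtain rfl : p = q := by omega
    by_cases hp : p = n
    · subst hp
      simp [g, ι, CochainComplex.HomComplex.Cochain.fromSingleMk_v]
      exact (Iso.hom_inv_id_assoc _ _).symm
    · exact (isZero_single_obj_X (ComplexShape.up ℤ) n X p hp).eq_of_src _ _

end Generic

open DerComp

variable {C : Type u} [SmallCategory C] {J : GrothendieckTopology C} (O : Sheaf J CommRingCat.{u})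

instance additive_restr' (U : C) : (ModSite.restr O U).Additive := ⟨rfl⟩

lemma preservesFiniteLimits_extZero (U : C) : PreservesFiniteLimits (ModSite.extZero O U) := by
  have : (ModSite.extZero O U).Additive := (ModSite.extZeroAdj O U).left_adjoint_additive
  have : PreservesColimitsOfSize.{0, 0} (ModSite.extZero O U) :=
    (ModSite.extZeroAdj O U).leftAdjoint_preservesColimits
  have : PreservesFiniteColimits (ModSite.extZero O U) :=
    PreservesColimitsOfSize.preservesFiniteColimits _
  exact ModGroth.preservesFiniteLimits_of_mono _ fun _ _ g _ => SiteMod.mono_extZero_map O U g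

lemma isKInjective_restr (U : C) (I : CochainComplex (ModSite.Mod O) ℤ)
    [I.IsKInjective] :
    CochainComplex.IsKInjective (((ModSite.restr O U).mapHomologicalComplex (ComplexShape.up ℤ)).obj I) := by
  have : (ModSite.extZero O U).Additive := (ModSite.extZeroAdj O U).left_adjoint_additive
  have := preservesFiniteLimits_extZero O U
  have : PreservesColimitsOfSize.{0, 0} (ModSite.extZero O U) :=
    (ModSite.extZeroAdj O U).leftAdjoint_preservesColimits
  have : PreservesFiniteColimits (ModSite.extZero O U) :=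
    PreservesColimitsOfSize.preservesFiniteColimits _
  exact TriH.isKInjective_map_of_adjunction _ _ (ModSite.extZeroAdj O U) I

lemma injective_restr (U : C) (M : ModSite.Mod O) [Injective M] : Injective ((ModSite.restr O U).obj M) := by
  have := preservesFiniteLimits_extZero O U
  exact (ModSite.extZeroAdj O U).map_injective M inferInstance

variable {O}

/-- Multiplication by a section on sections. -/
noncomputable def sm (V : C) (f : O.obj.obj (op V)) (M : ModSite.Mod O) : ModSite.sect M V →+ ModSite.sect M V :=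
  AddMonoidHom.mk' (fun x => (show (ModSite.ringSh O).obj.obj (op V) from f) • x) fun x y => smul_add _ x y

lemma sm_comp (V : C) (a f : O.obj.obj (op V)) (M : ModSite.Mod O) :
    sm V (a * f) M = (sm V a M).comp (sm V f M) :=
  AddMonoidHom.ext fun x => (mul_smul (show (ModSite.ringSh O).obj.obj (op V) from a)
    (show (ModSite.ringSh O).obj.obj (op V) from f) x :)

lemma sm_add (V : C) (a f : O.obj.obj (op V)) (M : ModSite.Mod O) :
    sm V (a + f) M = sm V a M + sm V f M :=
  AddMonoidHom.ext fun x => (add_smul (show (ModSite.ringSh O).obj.obj (op V) from a)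
    (show (ModSite.ringSh O).obj.obj (op V) from f) x :)

lemma sm_zero (V : C) (M : ModSite.Mod O) : sm V (0 : O.obj.obj (op V)) M = 0 :=
  AddMonoidHom.ext fun x => (zero_smul ((ModSite.ringSh O).obj.obj (op V)) x :)

variable (O)

/-- Sections over `V`. -/
noncomputable def Gam (V : C) : ModSite.Mod O ⥤ AddCommGrpCat.{u} where
  obj M := AddCommGrpCat.of (ModSite.sect M V)
  map a := AddCommGrpCat.ofHom (a.val.app (op V)).hom.toAddMonoidHom

instance additive_Gam (V : C) : (Gam O V).Additive := ⟨rfl⟩

variable {O}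

/-- Multiplication by a section, naturally. -/
noncomputable def smNat (V : C) (f : O.obj.obj (op V)) : Gam O V ⟶ Gam O V where
  app M := AddCommGrpCat.ofHom (sm V f M)
  naturality M N a := by
    ext x
    exact ((a.val.app (op V)).hom.map_smul _ x).symm

/-- The complex of sections. -/
noncomputable abbrev G (V : C) (I : CochainComplex (ModSite.Mod O) ℤ) : CochainComplex AddCommGrpCat.{u} ℤ :=
  ((Gam O V).mapHomologicalComplex (ComplexShape.up ℤ)).obj I

/-- Multiplication by a section on the complex of sections. -/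
noncomputable abbrev smCx (V : C) (f : O.obj.obj (op V)) (I : CochainComplex (ModSite.Mod O) ℤ) : G V I ⟶ G V I :=
  (NatTrans.mapHomologicalComplex (smNat V f) (ComplexShape.up ℤ)).app I

/-- Completeness at `(V, f)`, in terms of sequences of sections. -/
abbrev GoodL (I : CochainComplex (ModSite.Mod O) ℤ) (V : C) (f : O.obj.obj (op V)) : Prop :=
  LimExact (smCx V f I)

/-- Completeness at `(V, f)`, in terms of cohomology. -/
abbrev GoodH (I : CochainComplex (ModSite.Mod O) ℤ) (V : C) (f : O.obj.obj (op V)) : Prop :=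
  ∀ m : ℤ, IsC (Hmap (smCx V f I) m)

lemma isC_Hmap_sm_zero (I : CochainComplex (ModSite.Mod O) ℤ) (V : C) :
    GoodH I V 0 := fun m => by
  have : Hmap (smCx V (0 : O.obj.obj (op V)) I) m = 0 := AddMonoidHom.ext fun ξ => by
    obtain ⟨z, rfl⟩ := QuotientAddGroup.mk_surjective ξ
    obtain ⟨z', h1, h2⟩ := Hmap_mk (smCx V (0 : O.obj.obj (op V)) I) z
    rw [h2]
    exact congrArg _ (Subtype.ext (h1.trans (DFunLike.congr_fun (sm_zero V (I.X m)) z.1)))
  rw [this]
  exact isC_zero

lemma Hmap_sm_mul (I : CochainComplex (ModSite.Mod O) ℤ) (V : C) (a f : O.obj.obj (op V)) (m : ℤ) :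
    Hmap (smCx V (a * f) I) m = (Hmap (smCx V a I) m).comp (Hmap (smCx V f I) m) :=
  AddMonoidHom.ext fun ξ => by
    obtain ⟨z, rfl⟩ := QuotientAddGroup.mk_surjective ξ
    obtain ⟨p, p1, p2⟩ := Hmap_mk (smCx V (a * f) I) z
    obtain ⟨q, q1, q2⟩ := Hmap_mk (smCx V f I) z
    obtain ⟨r, r1, r2⟩ := Hmap_mk (smCx V a I) q
    rw [AddMonoidHom.comp_apply, p2, q2, r2]
    refine congrArg _ (Subtype.ext (p1.trans ?_))
    rw [r1, q1]
    exact DFunLike.congr_fun (sm_comp V a f (I.X m)) z.1

lemma Hmap_sm_add (I : CochainComplex (ModSite.Mod O) ℤ) (V : C) (a f : O.obj.obj (op V)) (m : ℤ) :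
    Hmap (smCx V (a + f) I) m = Hmap (smCx V a I) m + Hmap (smCx V f I) m :=
  AddMonoidHom.ext fun ξ => by
    obtain ⟨z, rfl⟩ := QuotientAddGroup.mk_surjective ξ
    obtain ⟨p, p1, p2⟩ := Hmap_mk (smCx V (a + f) I) z
    obtain ⟨q, q1, q2⟩ := Hmap_mk (smCx V f I) z
    obtain ⟨r, r1, r2⟩ := Hmap_mk (smCx V a I) z
    rw [AddMonoidHom.add_apply, p2, q2, r2, ← QuotientAddGroup.mk_add]
    refine congrArg _ (Subtype.ext (p1.trans ?_))
    rw [AddSubgroup.coe_add, r1, q1]
    exact DFunLike.congr_fun (sm_add V a f (I.X m)) z.1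

lemma Hmap_sm_comm (I : CochainComplex (ModSite.Mod O) ℤ) (V : C) (a f : O.obj.obj (op V)) (m : ℤ) (ξ) :
    Hmap (smCx V a I) m (Hmap (smCx V f I) m ξ) = Hmap (smCx V f I) m (Hmap (smCx V a I) m ξ) := by
  rw [← AddMonoidHom.comp_apply, ← Hmap_sm_mul, mul_comm, Hmap_sm_mul, AddMonoidHom.comp_apply]

lemma GoodH.mul_left {I : CochainComplex (ModSite.Mod O) ℤ} {V : C} (a : O.obj.obj (op V)) {f}
    (h : GoodH I V f) : GoodH I V (a * f) := fun m => by
  rw [Hmap_sm_mul]
  exact (h m).comp fun ξ => Hmap_sm_comm I V f a m ξ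

lemma GoodH.add {I : CochainComplex (ModSite.Mod O) ℤ} {V : C} {f g : O.obj.obj (op V)}
    (hf : GoodH I V f) (hg : GoodH I V g) : GoodH I V (f + g) := fun m => by
  rw [Hmap_sm_add]
  exact (hf m).add (fun ξ => Hmap_sm_comm I V f g m ξ) (hg m)

section Away

variable (O)

/-- The inclusions `j_! O_V ⟶ j_! O_{V,f}`. -/
noncomputable def legV (V : C) (f : O.obj.obj (op V)) (n : ℕ) :
    ModSite.freeOn O V ⟶ (ModSite.extZero O V).obj (awayOver O V f) :=
  (ModSite.extZero O V).map
    (Sigma.ι (fun _ : ℕ => ModSite.unit (O.over V)) n ≫ cokernel.π (awayMap (GSec.ofSect O V f) _))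

lemma map_id_apply (V : C) (f : O.obj.obj (op V)) : (O.obj.map (𝟙 V).op).hom f = f := by
  rw [op_id, O.obj.map_id]; rfl

/-- Sections correspond to `smulEnd`. -/
lemma homEquiv_smul (V : C) (f : O.obj.obj (op V)) {M : ModSite.Mod O}
    (a : ModSite.freeOn O V ⟶ M) :
    ModGroth.FreeOn.homEquiv O V M ((ModSite.extZero O V).map (smulEnd (GSec.ofSect O V f) _) ≫ a) =
      sm V f M (ModGroth.FreeOn.homEquiv O V M a) := by
  unfold ModGroth.FreeOn.homEquiv
  rw [Equiv.trans_apply, Equiv.trans_apply, Adjunction.homEquiv_naturality_left, smulEnd_comm]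
  have h := map_id_apply O V f
  exact congrArg (fun r : O.obj.obj (op V) => sm V r M _) h

lemma legV_succ (V : C) (f : O.obj.obj (op V)) (n : ℕ) :
    legV O V f n = (ModSite.extZero O V).map (smulEnd (GSec.ofSect O V f) _) ≫ legV O V f (n + 1) := by
  rw [legV, legV, ← Functor.map_comp]
  refine congrArg _ ?_
  rw [← sub_eq_zero, ← Category.assoc, ← Preadditive.sub_comp,
    ← DerCompRHom.ι_awayMap, Category.assoc, cokernel.condition, comp_zero]

lemma legV_hom_ext (V : C) (f : O.obj.obj (op V)) {M : ModSite.Mod O}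
    {a b : (ModSite.extZero O V).obj (awayOver O V f) ⟶ M} (h : ∀ n, legV O V f n ≫ a = legV O V f n ≫ b) :
    a = b := by
  refine ((ModSite.extZeroAdj O V).homEquiv _ _).injective ((cancel_epi (cokernel.π _)).1
    (Sigma.hom_ext _ _ fun n => ?_))
  rw [← Category.assoc, ← Category.assoc, ← Adjunction.homEquiv_naturality_left,
    ← Adjunction.homEquiv_naturality_left]
  exact congrArg _ (h n)

lemma exists_legV_desc (V : C) (f : O.obj.obj (op V)) {M : ModSite.Mod O} (x : ℕ → ModSite.sect M V)
    (hx : ∀ n, x n = sm V f M (x (n + 1))) :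
    ∃ a : (ModSite.extZero O V).obj (awayOver O V f) ⟶ M,
      ∀ n, ModGroth.FreeOn.homEquiv O V M (legV O V f n ≫ a) = x n := by
  let b : ℕ → (ModSite.unit (O.over V) ⟶ (ModSite.restr O V).obj M) := fun n =>
    (ModSite.extZeroAdj O V).homEquiv _ _ ((ModGroth.FreeOn.homEquiv O V M).symm (x n))
  have hb : ∀ n, b n = smulEnd (GSec.ofSect O V f) _ ≫ b (n + 1) := fun n => by
    apply ((ModSite.extZeroAdj O V).homEquiv _ _).symm.injective
    rw [Adjunction.homEquiv_naturality_left_symm, Equiv.symm_apply_apply, Equiv.symm_apply_apply]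
    apply (ModGroth.FreeOn.homEquiv O V M).injective
    rw [homEquiv_smul, Equiv.apply_symm_apply, Equiv.apply_symm_apply]
    exact hx n
  refine ⟨((ModSite.extZeroAdj O V).homEquiv _ _).symm (cokernel.desc _ (Sigma.desc b)
    (Sigma.hom_ext _ _ fun n => ?_)), fun n => ?_⟩
  · rw [← Category.assoc, DerCompRHom.ι_awayMap, Preadditive.sub_comp, Sigma.ι_desc, Category.assoc,
      Sigma.ι_desc, ← hb, sub_self, comp_zero]
  · rw [legV, ← Adjunction.homEquiv_naturality_left_symm, Category.assoc, cokernel.π_desc, Sigma.ι_desc,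
      Equiv.symm_apply_apply, Equiv.apply_symm_apply]

/-- Derived completeness at `(V, f)` is exactness of sequences of sections. -/
theorem good_iff (I : CochainComplex (ModSite.Mod O) ℤ) [I.IsKInjective]
    {K : DerivedCategory (ModSite.Mod O)} (e : DerivedCategory.Q.obj I ≅ K) (V : C) (f : O.obj.obj (op V)) :
    (∀ n : ℤ, Subsingleton (SiteCmp.inD O ((ModSite.extZero O V).obj (awayOver O V f)) ⟶ K⟦n⟧)) ↔
      GoodL I V f := by
  refine Iff.trans (forall_congr' fun n => (((shiftFunctor (DerivedCategory (ModSite.Mod O)) n).mapIso e).homToEquiv.subsingleton_congr).symm)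
    ((subsingleton_single_iff I _).trans ?_)
  constructor
  · intro h i j k hij hjk x hx hd
    obtain ⟨a, ha⟩ := exists_legV_desc O V f (M := I.X j) x hx
    obtain ⟨b, hb⟩ := h i j k hij hjk a (legV_hom_ext O V f fun n => by
      apply (ModGroth.FreeOn.homEquiv O V _).injective
      rw [← Category.assoc, ModGroth.FreeOn.homEquiv_comp, ha, comp_zero]
      refine (hd n).trans ?_
      rw [← comp_zero (f := legV O V f n ≫ a), ModGroth.FreeOn.homEquiv_comp]
      rfl)
    refine ⟨fun n => ModGroth.FreeOn.homEquiv O V _ (legV O V f n ≫ b), fun n => ?_, fun n => ?_⟩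
    · dsimp only
      conv_lhs => rw [legV_succ, Category.assoc]
      exact homEquiv_smul O V f _
    · rw [← ha n, ← hb, ← Category.assoc]
      exact (ModGroth.FreeOn.homEquiv_comp O V _ _).symm
  · intro h i j k hij hjk g hg
    obtain ⟨y, hy1, hy2⟩ := h i j k hij hjk (fun n => ModGroth.FreeOn.homEquiv O V _ (legV O V f n ≫ g))
      (fun n => by
        dsimp only
        conv_lhs => rw [legV_succ, Category.assoc]
        exact homEquiv_smul O V f _)
      (fun n => by
        refine (ModGroth.FreeOn.homEquiv_comp O V _ _).symm.trans ?_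
        rw [Category.assoc, hg, comp_zero, ← comp_zero (f := legV O V f n ≫ g),
          ModGroth.FreeOn.homEquiv_comp]
        rfl)
    obtain ⟨b, hb⟩ := exists_legV_desc O V f (M := I.X i) y hy1
    refine ⟨b, legV_hom_ext O V f fun n => (ModGroth.FreeOn.homEquiv O V _).injective ?_⟩
    rw [← Category.assoc, ModGroth.FreeOn.homEquiv_comp, hb]
    exact hy2 n

lemma homEquiv_add {M : ModSite.Mod O} {V : C} (a b : ModSite.freeOn O V ⟶ M) :
    ModGroth.FreeOn.homEquiv O V M (a + b) =
      ModGroth.FreeOn.homEquiv O V M a + ModGroth.FreeOn.homEquiv O V M b := by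
  unfold ModGroth.FreeOn.homEquiv
  rw [Equiv.trans_apply, Equiv.trans_apply, Equiv.trans_apply,
    ← Adjunction.homAddEquiv_apply, map_add]
  rfl

lemma surjective_psi_of_injective (V : C) (f : O.obj.obj (op V)) (M : ModSite.Mod O) [Injective M] :
    Function.Surjective (psi (sm V f M)) := fun b => by
  have := injective_restr O V M
  let R := (ModSite.restr O V).obj M
  let β : ℕ → (ModSite.unit (O.over V) ⟶ R) := fun n =>
    (ModSite.extZeroAdj O V).homEquiv _ _ ((ModGroth.FreeOn.homEquiv O V M).symm (b n))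
  have := DerCompRHom.mono_awayMap (GSec.ofSect O V f) (ModSite.unit (O.over V))
  let h := Injective.factorThru (Sigma.desc β) (awayMap (GSec.ofSect O V f) (ModSite.unit (O.over V)))
  let a : ℕ → (ModSite.freeOn O V ⟶ M) := fun n =>
    ((ModSite.extZeroAdj O V).homEquiv _ _).symm (Sigma.ι (fun _ : ℕ => ModSite.unit (O.over V)) n ≫ h)
  refine ⟨fun n => ModGroth.FreeOn.homEquiv O V M (a n), funext fun n => ?_⟩
  change ModGroth.FreeOn.homEquiv O V M (a n) - sm V f M (ModGroth.FreeOn.homEquiv O V M (a (n + 1))) = b n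
  rw [sub_eq_iff_eq_add, ← homEquiv_smul]
  have h1 := Sigma.ι (fun _ : ℕ => ModSite.unit (O.over V)) n ≫= Injective.comp_factorThru (Sigma.desc β)
    (awayMap (GSec.ofSect O V f) (ModSite.unit (O.over V)))
  rw [← Category.assoc, DerCompRHom.ι_awayMap, Sigma.ι_desc, Preadditive.sub_comp, Category.assoc,
    sub_eq_iff_eq_add] at h1
  have h2 : a n = (ModGroth.FreeOn.homEquiv O V M).symm (b n) +
      (ModSite.extZero O V).map (smulEnd (GSec.ofSect O V f) _) ≫ a (n + 1) := by
    rw [← ((ModSite.extZeroAdj O V).homEquiv _ _).symm_apply_apply ((ModGroth.FreeOn.homEquiv O V M).symm (b n)),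
      ← Adjunction.homEquiv_naturality_left_symm]
    exact (congrArg ((ModSite.extZeroAdj O V).homEquiv _ _).symm h1).trans
      (map_add ((ModSite.extZeroAdj O V).homAddEquiv _ _).symm _ _)
  rw [h2, homEquiv_add, Equiv.apply_symm_apply]

lemma goodL_iff_goodH (I : CochainComplex (ModSite.Mod O) ℤ) (hinj : ∀ m, Injective (I.X m))
    (V : C) (f : O.obj.obj (op V)) : GoodL I V f ↔ GoodH I V f :=
  limExact_iff _ fun m => by
    have := hinj m
    exact surjective_psi_of_injective O V f (I.X m)

end Away

end Groth.Agent.DerCompSec
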