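import Mathlib.Algebra.Category.Grp.Abelian
import Mathlib.Algebra.Homology.HomotopyCategory
import Mathlib.GroupTheory.QuotientGroup.Defs

/-!
# Derived completeness of an abelian group with respect to an endomorphism

`IsC f`: the map `(x n) ↦ (x n - f (x (n + 1)))` on sequences is bijective.
-/

set_option autoImplicit false

universe u

open CategoryTheory

namespace Groth.Agent.DerCompSec

section Endo

variable {A : Type u} [AddCommGroup A]

/-- `1 - f · shift` on sequences. -/
def psi (f : A →+ A) : (ℕ → A) →+ (ℕ → A) where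
  toFun x n := x n - f (x (n + 1))
  map_zero' := by ext n; simp
  map_add' x y := by ext n; simp only [Pi.add_apply, map_add]; abel

@[simp] lemma psi_apply (f : A →+ A) (x : ℕ → A) (n : ℕ) : psi f x n = x n - f (x (n + 1)) := rfl

/-- Derived completeness with respect to an endomorphism. -/
def IsC (f : A →+ A) : Prop := Function.Bijective (psi f)

lemma isC_zero : IsC (0 : A →+ A) := by
  have : ⇑(psi (0 : A →+ A)) = id := by ext x n; simp
  unfold IsC
  rw [this]
  exact Function.bijective_id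

lemma IsC.eq_zero {f : A →+ A} (h : IsC f) {x : ℕ → A} (hx : ∀ n, x n = f (x (n + 1))) (n : ℕ) :
    x n = 0 := by
  have : psi f x = psi f 0 := by ext n; simp [← hx n]
  exact congrFun (h.1 this) n

/-- Multiples of a derived complete endomorphism. -/
lemma IsC.comp {f a : A →+ A} (hc : ∀ x, f (a x) = a (f x)) (h : IsC f) : IsC (a.comp f) := by
  have hk : ∀ (k : ℕ) (x : A), f (a^[k] x) = a^[k] (f x) := fun k => by
    induction k with
    | zero => exact fun x => rfl
    | succ k ih => intro x; rw [Function.iterate_succ_apply', Function.iterate_succ_apply', hc, ih]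
  refine ⟨(injective_iff_map_eq_zero _).2 fun y hy => ?_, fun b => ?_⟩
  · funext m
    have hy' : ∀ n, y n = a (f (y (n + 1))) := fun n => sub_eq_zero.1 (congrFun hy n)
    refine h.eq_zero (x := fun k => a^[k] (y (m + k))) (fun k => ?_) 0
    change a^[k] (y (m + k)) = f (a^[k + 1] (y (m + k + 1)))
    rw [hk, Function.iterate_succ_apply, ← hy']
  · choose z hz using fun m => h.2 fun k => a^[k] (b (m + k))
    have hz' : ∀ m k, z m k - f (z m (k + 1)) = a^[k] (b (m + k)) := fun m k => congrFun (hz m) k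
    have key : ∀ m, (fun k => a (z (m + 1) k)) = fun k => z m (k + 1) := fun m => h.1 <| by
      funext k
      simp only [psi_apply]
      rw [hz', hc, ← map_sub, hz', Function.iterate_succ_apply', Nat.add_right_comm, Nat.add_assoc]
    refine ⟨fun m => z m 0, funext fun m => ?_⟩
    change z m 0 - a (f (z (m + 1) 0)) = b m
    rw [← hc, congrFun (key m) 0, hz']
    rfl

/-- Sums of commuting derived complete endomorphisms. -/
lemma IsC.add {f g : A →+ A} (hc : ∀ x, f (g x) = g (f x)) (hf : IsC f) (hg : IsC g) : IsC (f + g) := by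
  let e := AddEquiv.ofBijective (psi g) hg
  let F : (ℕ → A) → ℕ → A := fun x n => f (x n)
  let S : (ℕ → A) → ℕ → A := fun x n => x (n + 1)
  let T : (ℕ → A) → ℕ → A := fun x => e.symm (S x)
  have heF : ∀ x, e.symm (F x) = F (e.symm x) := fun x => hg.1 <| by
    refine (e.apply_symm_apply _).trans (funext fun n => ?_)
    change f (x n) = f (e.symm x n) - g (f (e.symm x (n + 1)))
    rw [← hc, ← map_sub]
    exact congrArg f (congrFun (e.apply_symm_apply x).symm n)
  have hTF : ∀ x, T (F x) = F (T x) := fun x => heF (S x)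
  have hTsub : ∀ x y, T (x - y) = T x - T y := fun x y => map_sub e.symm (S x) (S y)
  refine ⟨(injective_iff_map_eq_zero _).2 fun y hy => ?_, fun b => ?_⟩
  · have h0 : y = F (T y) := hg.1 <| funext fun n => by
      have : psi g (F (T y)) = F (S y) :=
        (congrArg (psi g) (heF (S y)).symm).trans (e.apply_symm_apply _)
      rw [this]
      have hn : y n - (f (y (n + 1)) + g (y (n + 1))) = 0 := congrFun hy n
      change y n - g (y (n + 1)) = f (y (n + 1))
      rw [← sub_eq_zero, ← hn]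
      abel
    have hk : ∀ k, T^[k] y = F (T^[k + 1] y) := fun k => by
      induction k with
      | zero => exact h0
      | succ k ih =>
        conv_lhs => rw [Function.iterate_succ_apply', ih, hTF]
        rw [← Function.iterate_succ_apply' T]
    funext n
    exact hf.eq_zero (x := fun k => T^[k] y n) (fun k => congrFun (hk k) n) 0
  · let c := e.symm b
    choose w hw using fun n => hf.2 fun k => T^[k] c n
    let v : ℕ → ℕ → A := fun k n => w n k
    have hv : ∀ k, v k - F (v (k + 1)) = T^[k] c := fun k => funext fun n => congrFun (hw n) k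
    have key : ∀ k, T (v k) = v (k + 1) := fun k => funext fun n => congrFun
      (a := k) (hf.1 (a₁ := fun k => T (v k) n) (a₂ := fun k => v (k + 1) n) (funext fun k => by
        simp only [psi_apply]
        have h1 := congrFun (congrArg T (hv k)) n
        rw [hTsub, hTF, ← Function.iterate_succ_apply' T k c, ← hv (k + 1)] at h1
        exact h1))
    refine ⟨v 0, funext fun n => ?_⟩
    change v 0 n - (f (v 0 (n + 1)) + g (v 0 (n + 1))) = b n
    have h0 : v 0 = c + F (T (v 0)) := by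
      rw [key, ← sub_eq_iff_eq_add, hv]; rfl
    have h1 : e (v 0) = b + F (S (v 0)) := by
      conv_lhs => rw [h0, map_add, e.apply_symm_apply, show F (T (v 0)) = e.symm (F (S (v 0))) from (heF _).symm,
        e.apply_symm_apply]
    have h2 : v 0 n - g (v 0 (n + 1)) = b n + f (v 0 (n + 1)) := congrFun h1 n
    rw [← sub_eq_zero] at h2 ⊢
    rw [← h2]; abel

/-- Transport along a compatible bijection. -/
lemma isC_iff_of_addEquiv {B : Type u} [AddCommGroup B] (e : A ≃+ B) {f : A →+ A} {g : B →+ B}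
    (h : ∀ x, e (f x) = g (e x)) : IsC f ↔ IsC g := by
  let E : (ℕ → A) ≃ (ℕ → B) := Equiv.piCongrRight fun _ => e.toEquiv
  have : ⇑(psi g) ∘ E = E ∘ psi f := by
    funext x n
    change e (x n) - g (e (x (n + 1))) = e (x n - f (x (n + 1)))
    rw [map_sub, h]
  unfold IsC
  rw [← E.comp_bijective, ← this, E.bijective_comp]

end Endo

section Complex

variable (G : CochainComplex AddCommGrpCat.{u} ℤ)

/-- Cocycles. -/
abbrev Zc (m : ℤ) : AddSubgroup (G.X m) := (G.d m (m + 1)).hom.ker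

/-- Cohomology, as a quotient group. -/
abbrev Hc (m : ℤ) : Type u := Zc G m ⧸ ((G.d (m - 1) m).hom.range).addSubgroupOf (Zc G m)

variable {G}

lemma mk_eq_zero_iff {m : ℤ} (z : Zc G m) :
    (z : Hc G m) = 0 ↔ ∃ w, G.d (m - 1) m w = (z : G.X m) := by
  rw [QuotientAddGroup.eq_zero_iff]; rfl

lemma d_d_apply (i j k : ℤ) (x : G.X i) : G.d j k (G.d i j x) = 0 := by
  rw [← ConcreteCategory.comp_apply, G.d_comp_d]; rfl

lemma comm_apply {G' : CochainComplex AddCommGrpCat.{u} ℤ} (φ : G ⟶ G') (i j : ℤ) (x : G.X i) :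
    G'.d i j (φ.f i x) = φ.f j (G.d i j x) := by
  rw [← ConcreteCategory.comp_apply, φ.comm, ConcreteCategory.comp_apply]

/-- The map induced on cohomology. -/
noncomputable def Hmap {G' : CochainComplex AddCommGrpCat.{u} ℤ} (φ : G ⟶ G') (m : ℤ) : Hc G m →+ Hc G' m :=
  QuotientAddGroup.map _ _
    (((φ.f m).hom.comp (Zc G m).subtype).codRestrict (Zc G' m) fun z => by
      change G'.d m (m + 1) (φ.f m (z : G.X m)) = 0
      rw [comm_apply, show G.d m (m + 1) (z : G.X m) = 0 from z.2, map_zero])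
    fun z ⟨w, hw⟩ => ⟨φ.f (m - 1) w, (comm_apply φ _ _ w).trans (congrArg (φ.f m) hw)⟩

lemma Hmap_mk {G' : CochainComplex AddCommGrpCat.{u} ℤ} (φ : G ⟶ G') {m : ℤ} (z : Zc G m) :
    ∃ z' : Zc G' m, (z' : G'.X m) = φ.f m (z : G.X m) ∧ Hmap φ m (z : Hc G m) = (z' : Hc G' m) :=
  ⟨_, rfl, rfl⟩

/-- Exactness of `lim_φ G`, given by compatible sequences. -/
def LimExact (φ : G ⟶ G) : Prop :=
  ∀ (i j k : ℤ), i + 1 = j → j + 1 = k → ∀ x : ℕ → G.X j, (∀ n, x n = φ.f j (x (n + 1))) →
    (∀ n, G.d j k (x n) = 0) → ∃ y : ℕ → G.X i, (∀ n, y n = φ.f i (y (n + 1))) ∧ ∀ n, G.d i j (y n) = x n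

lemma rearrange {A : Type u} [AddCommGroup A] (c r d c' r' d' : A)
    (h : d - d' - (c - c' - (r - r')) = 0) : c - r - d - (c' - r' - d') = 0 := by
  refine Eq.trans ?_ (neg_eq_zero.2 h)
  abel

lemma limExact_iff (φ : G ⟶ G) (hs : ∀ m, Function.Surjective (psi (φ.f m).hom)) :
    LimExact φ ↔ ∀ m, IsC (Hmap φ m) := by
  have sol : ∀ m (b : ℕ → G.X m), ∃ c : ℕ → G.X m, ∀ n, c n - φ.f m (c (n + 1)) = b n := fun m b =>
    let ⟨c, hc⟩ := hs m b
    ⟨c, congrFun hc⟩
  constructor
  · intro h m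
    refine ⟨(injective_iff_map_eq_zero _).2 fun ξ hξ => ?_, fun β => ?_⟩
    · choose z hz using fun n => QuotientAddGroup.mk_surjective (ξ n)
      have hz' : ∀ n, ∃ w, G.d (m - 1) m w = (z n : G.X m) - φ.f m (z (n + 1) : G.X m) := fun n => by
        obtain ⟨z', h1, h2⟩ := Hmap_mk φ (z (n + 1))
        obtain ⟨w, hw⟩ := (mk_eq_zero_iff (z n - z')).1 (by
          rw [QuotientAddGroup.mk_sub, hz, ← h2, hz]; exact congrFun hξ n)
        exact ⟨w, hw.trans (by rw [← h1]; rfl)⟩
      choose w hw using hz'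
      obtain ⟨c, hc⟩ := sol (m - 1) w
      obtain ⟨y, -, hy⟩ := h (m - 1) m (m + 1) (by omega) rfl (fun n => (z n : G.X m) - G.d (m - 1) m (c n))
        (fun n => by
          rw [map_sub, ← comm_apply, sub_eq_sub_iff_sub_eq_sub, ← map_sub, ← hw, hc])
        (fun n => by rw [map_sub, d_d_apply, sub_zero]; exact (z n).2)
      funext n
      rw [← hz n]
      exact (mk_eq_zero_iff _).2 ⟨y n + c n, by rw [map_add, hy, sub_add_cancel]⟩
    · choose b hb using fun n => QuotientAddGroup.mk_surjective (β n)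
      obtain ⟨x, hx⟩ := sol m fun n => (b n : G.X m)
      obtain ⟨y, hy1, hy2⟩ := h m (m + 1) (m + 1 + 1) rfl rfl (fun n => G.d m (m + 1) (x n))
        (fun n => by
          rw [← comm_apply, ← sub_eq_zero, ← map_sub, hx]; exact (b n).2)
        (fun n => d_d_apply _ _ _ _)
      let z : ℕ → Zc G m := fun n => ⟨x n - y n, by
        change G.d m (m + 1) (x n - y n) = 0
        rw [map_sub, hy2, sub_self]⟩
      refine ⟨fun n => (z n : Hc G m), funext fun n => ?_⟩
      obtain ⟨z', h1, h2⟩ := Hmap_mk φ (z (n + 1))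
      change (z n : Hc G m) - Hmap φ m (z (n + 1) : Hc G m) = β n
      rw [h2, ← QuotientAddGroup.mk_sub, ← hb n]
      refine congrArg _ (Subtype.ext ?_)
      change (x n - y n) - (z' : G.X m) = (b n : G.X m)
      rw [h1, ← hx n, show (z (n + 1) : G.X m) = x (n + 1) - y (n + 1) from rfl, map_sub, ← hy1 n]
      abel
  · intro h i j k hij hjk x hx1 hx2
    obtain rfl : i = j - 1 := by omega
    obtain rfl : k = j + 1 := by omega
    let z : ℕ → Zc G j := fun n => ⟨x n, hx2 n⟩
    have hz : ∀ n, ∃ w, G.d (j - 1) j w = x n := fun n => (mk_eq_zero_iff (z n)).1 <|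
      (h j).eq_zero (x := fun n => (z n : Hc G j)) (fun n => by
        obtain ⟨z', h1, h2⟩ := Hmap_mk φ (z (n + 1))
        rw [h2]
        exact congrArg _ (Subtype.ext ((hx1 n).trans h1.symm))) n
    choose c hc using hz
    let t : ℕ → Zc G (j - 1) := fun n => ⟨c n - φ.f (j - 1) (c (n + 1)), by
      change G.d (j - 1) (j - 1 + 1) (c n - φ.f (j - 1) (c (n + 1))) = 0
      obtain ⟨j', hj'⟩ : ∃ j', j' = j - 1 + 1 := ⟨_, rfl⟩
      rw [← hj']
      obtain rfl : j' = j := by omega
      rw [map_sub, comm_apply, hc, hc, ← hx1, sub_self]⟩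
    obtain ⟨ξ, hξ⟩ := (h (j - 1)).2 fun n => (t n : Hc G (j - 1))
    choose r hr using fun n => QuotientAddGroup.mk_surjective (ξ n)
    have he : ∀ n, ∃ e, G.d (j - 1 - 1) (j - 1) e =
        (c n - φ.f (j - 1) (c (n + 1))) - ((r n : G.X (j - 1)) - φ.f (j - 1) (r (n + 1) : G.X (j - 1))) := fun n => by
      obtain ⟨z', h1, h2⟩ := Hmap_mk φ (r (n + 1))
      obtain ⟨e, he⟩ := (mk_eq_zero_iff (t n - (r n - z'))).1 (by
        rw [QuotientAddGroup.mk_sub, QuotientAddGroup.mk_sub, hr, ← h2, hr, sub_eq_zero]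
        exact (congrFun hξ n).symm)
      exact ⟨e, he.trans (by rw [← h1]; rfl)⟩
    choose e he using he
    obtain ⟨e', he'⟩ := sol (j - 1 - 1) e
    refine ⟨fun n => c n - (r n : G.X (j - 1)) - G.d (j - 1 - 1) (j - 1) (e' n), fun n => ?_, fun n => ?_⟩
    · have h3 := he n
      rw [← he' n, map_sub, comm_apply] at h3
      rw [map_sub, map_sub, ← sub_eq_zero]
      rw [← sub_eq_zero] at h3
      exact rearrange _ _ _ _ _ _ h3
    · have hr0 : G.d (j - 1) j (r n : G.X (j - 1)) = 0 := by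
        obtain ⟨j', hj'⟩ : ∃ j', j' = j - 1 + 1 := ⟨_, rfl⟩
        have := (r n).2
        change G.d (j - 1) (j - 1 + 1) _ = 0 at this
        rw [← hj'] at this
        obtain rfl : j' = j := by omega
        exact this
      rw [map_sub, map_sub, d_d_apply, hr0, sub_zero, sub_zero, hc]

/-- Cocycles modulo coboundaries see a map which is bijective on cohomology. -/
lemma isC_Hmap_iff {G' : CochainComplex AddCommGrpCat.{u} ℤ} (χ : G ⟶ G') (φ : G ⟶ G) (φ' : G' ⟶ G')
    (hc : φ ≫ χ = χ ≫ φ') (m : ℤ)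
    (hinj : ∀ z : G.X m, G.d m (m + 1) z = 0 → (∃ w, G'.d (m - 1) m w = χ.f m z) → ∃ w, G.d (m - 1) m w = z)
    (hsurj : ∀ z' : G'.X m, G'.d m (m + 1) z' = 0 →
      ∃ z, G.d m (m + 1) z = 0 ∧ ∃ w, G'.d (m - 1) m w = z' - χ.f m z) :
    IsC (Hmap φ m) ↔ IsC (Hmap φ' m) := by
  have hb : Function.Bijective (Hmap χ m) := by
    refine ⟨(injective_iff_map_eq_zero _).2 fun ξ hξ => ?_, fun ξ => ?_⟩
    · obtain ⟨z, rfl⟩ := QuotientAddGroup.mk_surjective ξ
      obtain ⟨z', h1, h2⟩ := Hmap_mk χ z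
      rw [h2, mk_eq_zero_iff] at hξ
      exact (mk_eq_zero_iff z).2 (hinj z z.2 (h1 ▸ hξ))
    · obtain ⟨z', rfl⟩ := QuotientAddGroup.mk_surjective ξ
      obtain ⟨z, hz, w, hw⟩ := hsurj z' z'.2
      obtain ⟨z'', h1, h2⟩ := Hmap_mk χ (⟨z, hz⟩ : Zc G m)
      refine ⟨((⟨z, hz⟩ : Zc G m) : Hc G m), ?_⟩
      rw [h2, eq_comm, ← sub_eq_zero, ← QuotientAddGroup.mk_sub, mk_eq_zero_iff]
      exact ⟨w, hw.trans (by rw [← h1]; rfl)⟩
  refine isC_iff_of_addEquiv (AddEquiv.ofBijective _ hb) fun ξ => ?_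
  obtain ⟨z, rfl⟩ := QuotientAddGroup.mk_surjective ξ
  simp only [AddEquiv.ofBijective_apply]
  obtain ⟨a, a1, a2⟩ := Hmap_mk φ z
  obtain ⟨b, b1, b2⟩ := Hmap_mk χ a
  obtain ⟨a', a1', a2'⟩ := Hmap_mk χ z
  obtain ⟨b', b1', b2'⟩ := Hmap_mk φ' a'
  rw [a2, b2, a2', b2']
  refine congrArg _ (Subtype.ext ?_)
  rw [b1, b1', a1, a1', ← ConcreteCategory.comp_apply, ← ConcreteCategory.comp_apply,
    ← HomologicalComplex.comp_f, hc]
  rfl

end Complex

end Groth.Agent.DerCompSec
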