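import Groth.Agent.DerCompSec.Main
import Groth.Agent.SiteMod.ExtKFlat
import Groth.Agent.SiteMod.LTensorSite
import Groth.Agent.ModGroth.LTensorCx
import Groth.Agent.DerAdj.Basic

/-!
# Tensor products with `j_! O_{U,f}` see nothing of a complete object
-/

set_option autoImplicit false
set_option linter.style.haveILetI false

universe u

open CategoryTheory CategoryTheory.Limits Opposite HomologicalComplex

attribute [local instance] HasDerivedCategory.standard

namespace Groth.Agent.DerCompSec

open DerComp Groth.Agent.ModGroth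

variable {C : Type u} [SmallCategory C] {J : GrothendieckTopology C} (O : Sheaf J CommRingCat.{u})

lemma isKFlat_single_extZero (U : C) (f : O.obj.obj (op U)) (n : ℤ) :
    ModSite.IsKFlat ((CochainComplex.singleFunctor (ModSite.Mod O) n).obj
      ((ModSite.extZero O U).obj (awayOver O U f))) := by
  have h := SiteMod.isFlat_extZero O U (DerCompRHom.isFlat_locAway (GSec.ofSect O U f))
  have := h.1
  have := h.2
  have : ((ModSite.tensorBi O).flip.obj ((ModSite.extZero O U).obj (awayOver O U f))).PreservesHomology :=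
    inferInstance
  exact KFlat.flatR_single (ModSite.tensorBi O) _ n

variable (P : CochainComplex (ModSite.Mod O) ℤ)

/-- The complex `j_! O_{U,f}[-n] ⊗ P` as `j_!` of a complex `Y ⊗ O_{U,f}`. -/
lemma exists_tensor_iso (U : C) (f : O.obj.obj (op U)) (n : ℤ) :
    ∃ Y : CochainComplex (ModSite.Mod (O.over U)) ℤ,
      Nonempty (((ModSite.tensorCx O).flip.obj P).obj ((CochainComplex.singleFunctor (ModSite.Mod O) n).obj
          ((ModSite.extZero O U).obj (awayOver O U f))) ≅
        ((ModSite.extZero O U).mapHomologicalComplex (ComplexShape.up ℤ)).obj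
          (((tR (DerCompRHom.Os (GSec.ofSect O U f))).mapHomologicalComplex (ComplexShape.up ℤ)).obj Y)) := by
  have : (ModSite.extZero O U).Additive := (ModSite.extZeroAdj O U).left_adjoint_additive
  have : PreservesColimitsOfSize.{0, 0} (ModSite.extZero O U) :=
    (ModSite.extZeroAdj O U).leftAdjoint_preservesColimits
  let A : ModSite.Mod (O.over U) := awayOver O U f
  let Φc := (ModSite.extZero O U).mapHomologicalComplex (ComplexShape.up ℤ)
  let L := restrCx U P
  let F := tR A
  have : F.Additive := tR_additive A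
  refine ⟨L⟦-n⟧, ⟨?_⟩⟩
  let e1 : Φc.obj ((CochainComplex.singleFunctor _ n).obj A) ≅
      (CochainComplex.singleFunctor (ModSite.Mod O) n).obj ((ModSite.extZero O U).obj A) :=
    (singleMapHomologicalComplex (ModSite.extZero O U) (ComplexShape.up ℤ) n).app A
  let e2 := Mixed.totCompareIso (SiteMod.extCompat O U) ((CochainComplex.singleFunctor _ n).obj A) P
  let e3 := cxSymm (ModSite.tensorBi (O.over U)) tensorFlipIso ((CochainComplex.singleFunctor _ n).obj A) L
  let e4 : (CochainComplex.singleFunctor (ModSite.Mod (O.over U)) n).obj A ≅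
      ((CochainComplex.singleFunctor (ModSite.Mod (O.over U)) 0).obj A)⟦-n⟧ :=
    (((CochainComplex.singleFunctors (ModSite.Mod (O.over U))).shiftIso (-n) n 0 (by omega)).app A).symm
  let e5 := CochainComplex.mapBifunctorShift₂Iso L ((CochainComplex.singleFunctor (ModSite.Mod (O.over U)) 0).obj A)
    (ModSite.tensorBi (O.over U)) (-n)
  let e6 : (F.mapHomologicalComplex (ComplexShape.up ℤ)).obj L ≅
      mapBifunctor L ((CochainComplex.singleFunctor (ModSite.Mod (O.over U)) 0).obj A)
        (ModSite.tensorBi (O.over U)) (ComplexShape.up ℤ) := KFlat.singleIso (ModSite.tensorBi (O.over U)) L A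
  let T := (ModSite.tensorCx (O.over U)).obj L
  exact ((ModSite.tensorCx O).flip.obj P).mapIso e1.symm ≪≫ e2 ≪≫ Φc.mapIso (e3 ≪≫ T.mapIso e4 ≪≫ e5 ≪≫
    (shiftFunctor _ (-n)).mapIso e6.symm ≪≫ (((F.mapHomologicalComplex (ComplexShape.up ℤ)).commShiftIso (-n)).app L).symm)

variable {O} {P}

/-- Maps from `j_!` of a complex to a K-injective are maps to its restriction. -/
lemma eq_zero_extZero (U : C) (I : CochainComplex (ModSite.Mod O) ℤ) [I.IsKInjective]
    {Z : CochainComplex (ModSite.Mod (O.over U)) ℤ}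
    (hZ : ∀ a : DerivedCategory.Q.obj Z ⟶ DerivedCategory.Q.obj (restrCx U I), a = 0)
    [(ModSite.extZero O U).Additive]
    (a : DerivedCategory.Q.obj (((ModSite.extZero O U).mapHomologicalComplex (ComplexShape.up ℤ)).obj Z) ⟶
      DerivedCategory.Q.obj I) : a = 0 := by
  have := isKInjective_restr O U I
  obtain ⟨φ, rfl⟩ := TriH.Q_map_surjective_of_isKInjective _ I a
  rw [TriH.Q_map_eq_zero_iff_of_isKInjective]
  let adj := ModSite.extZeroAdj O U
  let ψ : Z ⟶ restrCx U I :=
    DerAdj.complexUnit adj Z ≫ ((ModSite.restr O U).mapHomologicalComplex (ComplexShape.up ℤ)).map φ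
  obtain ⟨H⟩ := (TriH.Q_map_eq_zero_iff_of_isKInjective ψ).1 (hZ _)
  refine ⟨(Homotopy.ofEq (HomologicalComplex.hom_ext _ _ fun k => ?_)).trans
    ((((ModSite.extZero O U).mapHomotopy H).compRight (DerAdj.complexCounit adj I)).trans (Homotopy.ofEq (by simp)))⟩
  change φ.f k = (ModSite.extZero O U).map (adj.unit.app (Z.X k) ≫ (ModSite.restr O U).map (φ.f k)) ≫
    adj.counit.app (I.X k)
  exact (((adj.homEquiv (Z.X k) (I.X k)).symm_apply_apply (φ.f k)).symm.trans
    ((congrArg (adj.homEquiv (Z.X k) (I.X k)).symm (adj.homEquiv_unit _ _ _)).trans (adj.homEquiv_counit _ _ _)))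

/-- `Hom((j_! O_{U,f})[-n] ⊗ᴸ P, I) = 0` when `I` is complete at `f` on all of `U`. -/
theorem eq_zero_ltensor [ModSite.HasLTensorCx P] (U : C) (f : O.obj.obj (op U))
    (I : CochainComplex (ModSite.Mod O) ℤ) [I.IsKInjective]
    (h : ∀ ⦃V : C⦄ (g : V ⟶ U), GoodL I V ((O.obj.map g.op).hom f)) (n : ℤ)
    (a : (ModSite.LTensorCx P).obj (DerivedCategory.Q.obj ((CochainComplex.singleFunctor (ModSite.Mod O) n).obj
      ((ModSite.extZero O U).obj (awayOver O U f)))) ⟶ DerivedCategory.Q.obj I) : a = 0 := by
  have : (ModSite.extZero O U).Additive := (ModSite.extZeroAdj O U).left_adjoint_additive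
  let X := (CochainComplex.singleFunctor (ModSite.Mod O) n).obj ((ModSite.extZero O U).obj (awayOver O U f))
  have hinv : (kres O).Inverts (ModSite.tensorCxQ P) := fun P₁ Q₁ α hP hQ hα => by
    have h : QuasiIso (((ModSite.tensorCx O).flip.obj P).map α) :=
      quasiIso_tensor_right α ((mem_quasiIso_iff _).1 hα) hP hQ P
    exact inferInstanceAs (IsIso (DerivedCategory.Q.map (((ModSite.tensorCx O).flip.obj P).map α)))
  haveI : (ModSite.LTensorCx P).IsLeftDerivedFunctor (SiteMod.LTensor.counit P)
      (HomologicalComplex.quasiIso (ModSite.Mod O) (ComplexShape.up ℤ)) :=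
    inferInstanceAs (((ModSite.tensorCxQ P).totalLeftDerived DerivedCategory.Q
      (HomologicalComplex.quasiIso (ModSite.Mod O) (ComplexShape.up ℤ))).IsLeftDerivedFunctor
        ((ModSite.tensorCxQ P).totalLeftDerivedCounit DerivedCategory.Q
          (HomologicalComplex.quasiIso (ModSite.Mod O) (ComplexShape.up ℤ))) _)
  haveI := (kres O).isIso_counit DerivedCategory.Q hinv _ (SiteMod.LTensor.counit P) X
    (isKFlat_single_extZero O U f n)
  obtain ⟨Y, ⟨e⟩⟩ := exists_tensor_iso O P U f n
  have := isKInjective_restr O U I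
  let e' : (ModSite.LTensorCx P).obj (DerivedCategory.Q.obj X) ≅ DerivedCategory.Q.obj
      (((ModSite.extZero O U).mapHomologicalComplex (ComplexShape.up ℤ)).obj
        (((tR (DerCompRHom.Os (GSec.ofSect O U f))).mapHomologicalComplex (ComplexShape.up ℤ)).obj Y)) :=
    asIso ((SiteMod.LTensor.counit P).app X) ≪≫ DerivedCategory.Q.mapIso e
  have h0 := eq_zero_extZero U I (Z := ((tR (DerCompRHom.Os (GSec.ofSect O U f))).mapHomologicalComplex
    (ComplexShape.up ℤ)).obj Y)
    (eq_zero_of_tensor_away (GSec.ofSect O U f) (restrCx U I)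
      (local_restr I f (J.top_mem U) fun V g _ => h g)) (e'.inv ≫ a)
  exact (cancel_epi e'.inv).1 (h0.trans comp_zero.symm)

end Groth.Agent.DerCompSec
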