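import Groth.Agent.DerCompSec.RpushCompl
import Groth.Agent.DerCompSec.Tensor

/-!
# Derived completion commutes with `RHom(P, -)`
-/

set_option autoImplicit false
set_option linter.style.haveILetI false

universe u v w t v'

open ZeroObject CategoryTheory CategoryTheory.Limits Opposite HomologicalComplex CochainComplex

attribute [local instance] HasDerivedCategory.standard

namespace Groth.Agent.DerCompSec

open DerComp Groth.Agent.ModGroth

section Abstract

variable {A : Type w} [Category.{v} A] [Abelian A] [HasDerivedCategory.{v'} A] {R : Type t} [CommRing R]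
  [Linear R A]

/-- Objects killed by the list. -/
def Killed (l : List R) (T : DerivedCategory A) : Prop := ∀ r ∈ l, r • 𝟙 T = 0

lemma Killed.shift {l : List R} {T : DerivedCategory A} (h : Killed l T) (k : ℤ) : Killed l (T⟦k⟧) :=
  fun r hr => by
    rw [← CategoryTheory.Functor.map_id, ← Functor.map_smul, h r hr, Functor.map_zero]

lemma killed_Q {l : List R} {N : CochainComplex A ℤ} (h : ∀ r ∈ l, Nonempty (Homotopy (r • 𝟙 N) 0)) :
    Killed l (DerivedCategory.Q.obj N) := fun r hr => by
  obtain ⟨H⟩ := h r hr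
  rw [← DerivedCategory.Q.map_id, ← Functor.map_smul]
  exact (HomologicalComplexUpToQuasiIso.Q_map_eq_of_homotopy H).trans (DerivedCategory.Q.map_zero _ _)

/-- Killed objects see nothing of a complex with acyclic iterated cone. -/
lemma eq_zero_of_killed : ∀ (l : List R) {T : DerivedCategory A}, Killed l T →
    ∀ (C : CochainComplex A ℤ), ((kos l).obj C).Acyclic → ∀ a : T ⟶ DerivedCategory.Q.obj C, a = 0 := by
  suffices h : ∀ (l : List R) {T : DerivedCategory A}, Killed l T → ∀ (C : CochainComplex A ℤ),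
      (∀ a : T ⟶ DerivedCategory.Q.obj ((kos l).obj C), a = 0) → ∀ a : T ⟶ DerivedCategory.Q.obj C, a = 0 from
    fun l T hT C hC a => h l hT C (fun b => ((isZero_Q_iff _).2 hC).eq_of_tgt _ _) a
  intro l
  induction l with
  | nil => exact fun _ _ h => h
  | cons r l ih =>
    intro T hT C h
    refine ih (fun s hs => hT s (List.mem_cons_of_mem _ hs)) C fun a => ?_
    let X := (kos l).obj C
    let Δ := DerivedCategory.Q.mapTriangle.obj (mappingCone.triangle (r • 𝟙 X))
    have hΔ : Δ ∈ Pretriangulated.distinguishedTriangles := DerivedCategory.mappingCone_triangle_distinguished _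
    let a' : T ⟶ Δ.obj₂ := a
    obtain ⟨b, hb⟩ := Pretriangulated.Triangle.coyoneda_exact₂ Δ hΔ a' (h _)
    let b' : T ⟶ DerivedCategory.Q.obj X := b
    have h1 : b' ≫ DerivedCategory.Q.map (r • 𝟙 X) = 0 := by
      rw [Functor.map_smul, DerivedCategory.Q.map_id, Linear.comp_smul, Category.comp_id, ← Category.id_comp b',
        ← Linear.smul_comp, hT r List.mem_cons_self, zero_comp]
    exact hb.trans h1

/-- Maps to the iterated cone vanish if those to the complex do. -/
lemma eq_zero_to_kos : ∀ (l : List R) {T : DerivedCategory A} {C : CochainComplex A ℤ},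
    (∀ (n : ℤ) (a : T⟦n⟧ ⟶ DerivedCategory.Q.obj C), a = 0) →
    ∀ (n : ℤ) (a : T⟦n⟧ ⟶ DerivedCategory.Q.obj ((kos l).obj C)), a = 0
  | [], _, _, h, n, a => h n a
  | r :: l, T, C, h, n, a => by
    have ih := eq_zero_to_kos l h
    let X := (kos l).obj C
    let Δ := DerivedCategory.Q.mapTriangle.obj (mappingCone.triangle (r • 𝟙 X))
    have hΔ : Δ ∈ Pretriangulated.distinguishedTriangles := DerivedCategory.mappingCone_triangle_distinguished _
    let a' : T⟦n⟧ ⟶ Δ.obj₃ := a
    have h0 : a' ≫ Δ.mor₃ = 0 := by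
      let e := (CategoryTheory.shiftFunctorAdd' (DerivedCategory A) (n - 1) 1 n (by omega)).app T
      obtain ⟨c, hc⟩ := (CategoryTheory.shiftFunctor (DerivedCategory A) (1 : ℤ)).map_surjective
        (X := T⟦n - 1⟧) (e.inv ≫ a' ≫ Δ.mor₃)
      rw [← cancel_epi e.inv, comp_zero, ← hc,
        show c = 0 from ih (n - 1) c, Functor.map_zero]
    obtain ⟨b, hb⟩ := Pretriangulated.Triangle.coyoneda_exact₃ Δ hΔ a' h0
    change a' = 0
    rw [hb, show b = 0 from ih n b, zero_comp]

/-- If no shift of the iterated cone of a resolution maps to the complex, the iterated cone is acyclic. -/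
lemma acyclic_kos_of_killed (l : List R) {Y C : CochainComplex A ℤ} (q : Y ⟶ C) [QuasiIso q]
    (h : ∀ (n : ℤ) (a : (DerivedCategory.Q.obj ((kos l).obj Y))⟦n⟧ ⟶ DerivedCategory.Q.obj C), a = 0) :
    ((kos l).obj C).Acyclic := by
  haveI := quasiIso_kos l q inferInstance
  let z := (shiftFunctorZero (DerivedCategory A) ℤ).app (DerivedCategory.Q.obj ((kos l).obj Y))
  have h0 : DerivedCategory.Q.map ((kos l).map q) = 0 :=
    (cancel_epi z.hom).1 ((eq_zero_to_kos l h 0 _).trans comp_zero.symm)
  rw [← isZero_Q_iff, IsZero.iff_id_eq_zero]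
  exact (IsIso.inv_hom_id (DerivedCategory.Q.map ((kos l).map q))).symm.trans
    ((congrArg (inv (DerivedCategory.Q.map ((kos l).map q)) ≫ ·) h0).trans comp_zero)

/-- Precise: killed objects do not distinguish the ends of a map with acyclic iterated cone. -/
lemma bijective_postcomp (l : List R) {T : DerivedCategory A} (hT : Killed l T) {X Y : CochainComplex A ℤ}
    (g : X ⟶ Y) (hg : ((kos l).obj (mappingCone g)).Acyclic) :
    Function.Bijective fun a : T ⟶ DerivedCategory.Q.obj X => a ≫ DerivedCategory.Q.map g := by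
  let Δ := DerivedCategory.Q.mapTriangle.obj (mappingCone.triangle g)
  have hΔ : Δ ∈ Pretriangulated.distinguishedTriangles := DerivedCategory.mappingCone_triangle_distinguished _
  refine ⟨fun a a' h => sub_eq_zero.1 ?_, fun b => ?_⟩
  · let d : T ⟶ Δ.obj₁ := a - a'
    have h0 : d⟦(1 : ℤ)⟧' ≫ Δ.mor₁⟦(1 : ℤ)⟧' = 0 := by
      rw [← Functor.map_comp, show d ≫ Δ.mor₁ = 0 from ?_, Functor.map_zero]
      change (a - a') ≫ DerivedCategory.Q.map g = 0
      rw [Preadditive.sub_comp, sub_eq_zero]
      exact h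
    obtain ⟨c, hc⟩ := Pretriangulated.Triangle.coyoneda_exact₁ Δ hΔ (d⟦(1 : ℤ)⟧') h0
    have hd : d⟦(1 : ℤ)⟧' = 0 :=
      hc.trans ((congrArg (· ≫ Δ.mor₃) (eq_zero_of_killed l (hT.shift 1) _ hg c)).trans zero_comp)
    exact (CategoryTheory.shiftFunctor (DerivedCategory A) (1 : ℤ)).map_injective
      (hd.trans (Functor.map_zero _ _ _).symm)
  · let b' : T ⟶ Δ.obj₂ := b
    obtain ⟨a, ha⟩ := Pretriangulated.Triangle.coyoneda_exact₂ Δ hΔ b' (eq_zero_of_killed l hT _ hg _)
    exact ⟨a, ha.symm⟩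

/-- Maps to the cone vanish if postcomposition is bijective. -/
lemma eq_zero_cone_of_bijective {X Y : CochainComplex A ℤ} (g : X ⟶ Y) {T : DerivedCategory A}
    (h : ∀ n : ℤ, Function.Bijective fun a : T⟦n⟧ ⟶ DerivedCategory.Q.obj X => a ≫ DerivedCategory.Q.map g)
    (n : ℤ) (a : T⟦n⟧ ⟶ DerivedCategory.Q.obj (mappingCone g)) : a = 0 := by
  let Δ := DerivedCategory.Q.mapTriangle.obj (mappingCone.triangle g)
  have hΔ : Δ ∈ Pretriangulated.distinguishedTriangles := DerivedCategory.mappingCone_triangle_distinguished _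
  let a' : T⟦n⟧ ⟶ Δ.obj₃ := a
  have h0 : a' ≫ Δ.mor₃ = 0 := by
    let e := (CategoryTheory.shiftFunctorAdd' (DerivedCategory A) (n - 1) 1 n (by omega)).app T
    obtain ⟨c, hc⟩ := (CategoryTheory.shiftFunctor (DerivedCategory A) (1 : ℤ)).map_surjective
      (X := T⟦n - 1⟧) (e.inv ≫ a' ≫ Δ.mor₃)
    have hcg : c ≫ Δ.mor₁ = 0 := (CategoryTheory.shiftFunctor (DerivedCategory A) (1 : ℤ)).map_injective (by
      rw [Functor.map_comp, hc, Functor.map_zero, Category.assoc, Category.assoc,
        Pretriangulated.comp_distTriang_mor_zero₃₁ Δ hΔ, comp_zero, comp_zero])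
    have : c = 0 := (h (n - 1)).1 (hcg.trans zero_comp.symm)
    rw [← cancel_epi e.inv, comp_zero, ← hc, this, Functor.map_zero]
  obtain ⟨b, hb⟩ := Pretriangulated.Triangle.coyoneda_exact₃ Δ hΔ a' h0
  obtain ⟨b', hb'⟩ := (h n).2 b
  change a' = 0
  rw [hb]
  refine (congrArg (· ≫ Δ.mor₂) hb'.symm).trans ?_
  exact (Category.assoc b' Δ.mor₁ Δ.mor₂).trans
    ((congrArg (b' ≫ ·) (Pretriangulated.comp_distTriang_mor_zero₁₂ Δ hΔ)).trans comp_zero)

end Abstract

variable {C : Type u} [SmallCategory C] {J : GrothendieckTopology C} (O : Sheaf J CommRingCat.{u})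

/-- `j_!` keeps K-flat complexes. -/
lemma isKFlat_extZero (U : C) {Y : CochainComplex (ModSite.Mod (O.over U)) ℤ} (hY : ModSite.IsKFlat Y)
    [(ModSite.extZero O U).Additive] :
    ModSite.IsKFlat (((ModSite.extZero O U).mapHomologicalComplex (ComplexShape.up ℤ)).obj Y) := by
  intro F hF i
  have : PreservesColimitsOfSize.{0, 0} (ModSite.extZero O U) :=
    (ModSite.extZeroAdj O U).leftAdjoint_preservesColimits
  have : PreservesFiniteColimits (ModSite.extZero O U) := PreservesColimitsOfSize.preservesFiniteColimits _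
  haveI := preservesFiniteLimits_extZero O U
  have hR : ∀ j, IsZero ((restrCx U F).homology j) := fun j =>
    (Functor.map_isZero (ModSite.restr O U) (hF j)).of_iso ((F.sc j).mapHomologyIso (ModSite.restr O U))
  let T := ((ModSite.tensorCx (O.over U)).obj (restrCx U F)).obj Y
  let Φc := (ModSite.extZero O U).mapHomologicalComplex (ComplexShape.up ℤ)
  let e : ((ModSite.tensorCx O).obj F).obj (Φc.obj Y) ≅ Φc.obj T :=
    cxSymm (ModSite.tensorBi O) tensorFlipIso F (Φc.obj Y) ≪≫
      Mixed.totCompareIso (SiteMod.extCompat O U) Y F ≪≫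
      Φc.mapIso (cxSymm (ModSite.tensorBi (O.over U)) tensorFlipIso Y (restrCx U F))
  exact ((Functor.map_isZero (ModSite.extZero O U) (hY _ hR i)).of_iso
    ((T.sc i).mapHomologyIso (ModSite.extZero O U))).of_iso ((homologyFunctor _ _ i).mapIso e)

variable {O}

/-- Null homotopic multiplications on K-flat complexes stay zero after tensoring. -/
lemma killed_tensor {l : List (GSec O)} {Y : CochainComplex (ModSite.Mod O) ℤ} (hY : ModSite.IsKFlat Y)
    (h : ∀ s ∈ l, Nonempty (Homotopy (s • 𝟙 Y) 0)) (P : CochainComplex (ModSite.Mod O) ℤ) :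
    Killed l (DerivedCategory.Q.obj (((ModSite.tensorCx O).flip.obj P).obj Y)) := by
  intro s hs
  obtain ⟨H⟩ := h s hs
  let T := (ModSite.tensorCx O).flip.obj P
  have h1 : T.map (s • 𝟙 Y) = s • 𝟙 (T.obj Y) := by
    refine HomologicalComplex.hom_ext _ _ fun n => mapBifunctor.hom_ext fun p q hpq => ?_
    refine (HomologicalComplex.ι_mapBifunctorMap ..).trans ?_
    let ι := HomologicalComplex.ιMapBifunctor Y P (ModSite.tensorBi O) (ComplexShape.up ℤ) p q n hpq
    have h2 : (s • 𝟙 Y : Y ⟶ Y).f p = smulEnd s (Y.X p) := by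
      rw [smul_f_apply, id_f, smul_def, Category.comp_id]
    have h3 : ((ModSite.tensorBi O).obj (Y.X p)).map ((𝟙 P : P ⟶ P).f q) = 𝟙 _ := by
      rw [id_f, CategoryTheory.Functor.map_id]
    have h4 : (s • 𝟙 (T.obj Y) : T.obj Y ⟶ T.obj Y).f n = smulEnd s ((T.obj Y).X n) := by
      rw [smul_f_apply, id_f, smul_def, Category.comp_id]
    refine (congrArg₂ (fun a b => a ≫ b ≫ ι) ((congrArg (tR (P.X q)).map h2).trans
      (tR_map_smulEnd (P.X q) s (Y.X p))) h3).trans ?_
    refine (congrArg (smulEnd s _ ≫ ·) (Category.id_comp ι)).trans ?_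
    exact (smulEnd_comm s ι).trans (congrArg (ι ≫ ·) h4.symm)
  let K := mappingCone (𝟙 Y)
  have hK : ModSite.IsKFlat K := (cone_two_out_of_three (𝟙 Y)).1 hY hY
  obtain ⟨z, hz⟩ := CochainComplex.HomComplex.Cochain.equivHomotopy _ _ H
  rw [CochainComplex.HomComplex.Cochain.ofHom_zero, add_zero] at hz
  let g : K ⟶ Y := mappingCone.desc (𝟙 Y) z (s • 𝟙 Y) (by rw [Category.id_comp, hz])
  have h2 : T.map (s • 𝟙 Y) = T.map (mappingCone.inr (𝟙 Y)) ≫ T.map g := by
    rw [← T.map_comp, mappingCone.inr_desc]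
  have hKac : K.Acyclic := KFlat.acyclic_mappingCone_id Y
  have hZ : IsZero (0 : CochainComplex (ModSite.Mod O) ℤ) := isZero_zero _
  haveI hq : QuasiIso (0 : K ⟶ 0) := by
    refine ⟨fun n => ?_⟩
    rw [quasiIsoAt_iff_isIso_homologyMap]
    exact isIso_of_source_target_iso_zero _ ((exactAt_iff_isZero_homology _ _).1 (hKac n)).isoZero
      ((homologyFunctor _ _ n).map_isZero hZ).isoZero
  haveI h3 : QuasiIso (T.map (0 : K ⟶ 0)) :=
    quasiIso_tensor_right (0 : K ⟶ 0) hq hK (KFlat.FlatR.of_isZero _ hZ) P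
  have hT0 : IsZero (T.obj (0 : CochainComplex (ModSite.Mod O) ℤ)) := T.map_isZero hZ
  have hTK : (T.obj K).Acyclic := fun n => by
    rw [exactAt_iff_isZero_homology]
    exact ((homologyFunctor _ _ n).map_isZero hT0).of_iso (haveI := h3.quasiIsoAt n; isoOfQuasiIsoAt (T.map (0 : K ⟶ 0)) n)
  rw [← DerivedCategory.Q.map_id, ← Functor.map_smul, ← h1, h2, Functor.map_comp,
    ((isZero_Q_iff _).2 hTK).eq_of_tgt (DerivedCategory.Q.map (T.map (mappingCone.inr (𝟙 Y)))) 0, zero_comp]

variable (O) (P : CochainComplex (ModSite.Mod O) ℤ) [ModSite.HasLTensorCx P]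

/-- `j_! Y ⊗ᴸ P` is `j_!` of `Y ⊗ P|_U`. -/
lemma nonempty_ltensor_extZero_iso (U : C) [(ModSite.extZero O U).Additive]
    {Y : CochainComplex (ModSite.Mod (O.over U)) ℤ} (hY : ModSite.IsKFlat Y) :
    Nonempty ((ModSite.LTensorCx P).obj
        (DerivedCategory.Q.obj (((ModSite.extZero O U).mapHomologicalComplex (ComplexShape.up ℤ)).obj Y)) ≅
      DerivedCategory.Q.obj (((ModSite.extZero O U).mapHomologicalComplex (ComplexShape.up ℤ)).obj
        (((ModSite.tensorCx (O.over U)).flip.obj (restrCx U P)).obj Y))) := by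
  have : PreservesColimitsOfSize.{0, 0} (ModSite.extZero O U) :=
    (ModSite.extZeroAdj O U).leftAdjoint_preservesColimits
  have hinv : (kres O).Inverts (ModSite.tensorCxQ P) := fun P₁ Q₁ α hP hQ hα => by
    have h : QuasiIso (((ModSite.tensorCx O).flip.obj P).map α) :=
      quasiIso_tensor_right α ((mem_quasiIso_iff _).1 hα) hP hQ P
    exact inferInstanceAs (IsIso (DerivedCategory.Q.map (((ModSite.tensorCx O).flip.obj P).map α)))
  haveI : (ModSite.LTensorCx P).IsLeftDerivedFunctor (SiteMod.LTensor.counit P)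
      (HomologicalComplex.quasiIso (ModSite.Mod O) (ComplexShape.up ℤ)) :=
    inferInstanceAs (((ModSite.tensorCxQ P).totalLeftDerived DerivedCategory.Q
      (HomologicalComplex.quasiIso (ModSite.Mod O) (ComplexShape.up ℤ))).IsLeftDerivedFunctor
        ((ModSite.tensorCxQ P).totalLeftDerivedCounit DerivedCategory.Q
          (HomologicalComplex.quasiIso (ModSite.Mod O) (ComplexShape.up ℤ))) _)
  haveI := (kres O).isIso_counit DerivedCategory.Q hinv _ (SiteMod.LTensor.counit P) _
    (isKFlat_extZero O U hY)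
  exact ⟨asIso ((SiteMod.LTensor.counit P).app _) ≪≫
    DerivedCategory.Q.mapIso (Mixed.totCompareIso (SiteMod.extCompat O U) Y P)⟩

variable {O}

/-- Transfer of bijectivity along an adjunction of exact left adjoint. -/
lemma bijective_adj {B : Type (u + 1)} [Category.{u} B] [Abelian B] {A : Type (u + 1)} [Category.{u} A]
    [Abelian A] {L : B ⥤ A} {R : A ⥤ B} (adj : L ⊣ R) [L.Additive] [R.Additive] [PreservesFiniteLimits L]
    [PreservesFiniteColimits L] {I I' : CochainComplex A ℤ} [I.IsKInjective] [I'.IsKInjective] (φ : I ⟶ I')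
    (X : DerivedCategory B) :
    (Function.Bijective fun a : L.mapDerivedCategory.obj X ⟶ DerivedCategory.Q.obj I =>
        a ≫ DerivedCategory.Q.map φ) ↔
      Function.Bijective fun b : X ⟶ DerivedCategory.Q.obj ((R.mapHomologicalComplex (ComplexShape.up ℤ)).obj I) =>
        b ≫ DerivedCategory.Q.map ((R.mapHomologicalComplex (ComplexShape.up ℤ)).map φ) := by
  have hn : DerAdj.complexCounit adj I ≫ φ =
      (L.mapHomologicalComplex (ComplexShape.up ℤ)).map ((R.mapHomologicalComplex (ComplexShape.up ℤ)).map φ) ≫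
        DerAdj.complexCounit adj I' :=
    HomologicalComplex.hom_ext _ _ fun n => (adj.counit.naturality (φ.f n)).symm
  have e : (fun a : L.mapDerivedCategory.obj X ⟶ DerivedCategory.Q.obj I => a ≫ DerivedCategory.Q.map φ) ∘
      adjMap adj I = adjMap adj I' ∘ fun b => b ≫
        DerivedCategory.Q.map ((R.mapHomologicalComplex (ComplexShape.up ℤ)).map φ) := by
    funext b
    simp only [Function.comp_apply, adjMap, Category.assoc, Functor.map_comp]
    refine congrArg (L.mapDerivedCategory.map b ≫ ·) ?_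
    rw [← Functor.map_comp, hn, Functor.map_comp]
    exact (L.mapDerivedCategoryFactors.hom.naturality_assoc _ _).symm
  rw [← Function.Bijective.of_comp_iff _ (adjMap_bijective adj I X), e,
    Function.Bijective.of_comp_iff' (adjMap_bijective adj I' X)]

variable [DerComp.HasRHom P]

/-- The main computation. -/
theorem acyclic_kos_rhom (U : C) (l : List (GSec (O.over U)))
    {X Y B T : CochainComplex (ModSite.Mod O) ℤ} [X.IsKInjective] [Y.IsKInjective] [B.IsKInjective]
    [T.IsKInjective] (φ : X ⟶ Y) (hφ : ((kos l).obj (restrCx U (mappingCone φ))).Acyclic)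
    (β : B ⟶ T) (eB : DerivedCategory.Q.obj B ≅ (DerComp.RHom P).obj (DerivedCategory.Q.obj X))
    (eT : DerivedCategory.Q.obj T ≅ (DerComp.RHom P).obj (DerivedCategory.Q.obj Y))
    (hβ : DerivedCategory.Q.map β = eB.hom ≫ (DerComp.RHom P).map (DerivedCategory.Q.map φ) ≫ eT.inv) :
    ((kos l).obj (mappingCone (((ModSite.restr O U).mapHomologicalComplex (ComplexShape.up ℤ)).map β))).Acyclic := by
  let R := (ModSite.restr O U).mapHomologicalComplex (ComplexShape.up ℤ)
  let adj := ModSite.extZeroAdj O U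
  have : (ModSite.extZero O U).Additive := adj.left_adjoint_additive
  have : PreservesColimitsOfSize.{0, 0} (ModSite.extZero O U) := adj.leftAdjoint_preservesColimits
  have : PreservesFiniteColimits (ModSite.extZero O U) := PreservesColimitsOfSize.preservesFiniteColimits _
  haveI := preservesFiniteLimits_extZero O U
  have hφ' : ((kos l).obj (mappingCone (R.map φ))).Acyclic :=
    (acyclic_iff_of_quasiIso ((kos l).mapIso (mappingCone.mapHomologicalComplexIso φ (ModSite.restr O U))).hom).1 hφ
  obtain ⟨Y₀, q, hY₀, -, hq, -⟩ := exists_resolution (mappingCone (R.map β))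
  haveI := hq
  have hkos : ∀ l' : List (GSec (O.over U)), ModSite.IsKFlat ((kos l').obj Y₀) := fun l' => by
    induction l' with
    | nil => exact hY₀
    | cons r l' ih => exact (cone_two_out_of_three (r • 𝟙 ((kos l').obj Y₀))).1 ih ih
  refine acyclic_kos_of_killed l q (eq_zero_cone_of_bijective (R.map β) fun n => ?_)
  let Yn := ((kos l).obj Y₀)⟦n⟧
  have hYn : ModSite.IsKFlat Yn := KFlat.FlatR.shift _ (hkos l) n
  have hnull : ∀ s ∈ l, Nonempty (Homotopy (s • 𝟙 Yn) 0) := fun s hs => by
    obtain ⟨H⟩ := null_kos hs Y₀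
    exact ⟨((Homotopy.ofEq (HomologicalComplex.hom_ext _ _ fun i => rfl)).trans (H.shift n)).trans
      (Homotopy.ofEq (Functor.map_zero _ _ _))⟩
  let e₁ := (DerivedCategory.Q.commShiftIso n).app ((kos l).obj Y₀)
  have key : Function.Bijective fun b : DerivedCategory.Q.obj Yn ⟶ DerivedCategory.Q.obj (R.obj B) =>
      b ≫ DerivedCategory.Q.map (R.map β) := by
    rw [← bijective_adj adj β]
    let j := (ModSite.extZero O U).mapHomologicalComplex (ComplexShape.up ℤ)
    obtain ⟨eL⟩ := nonempty_ltensor_extZero_iso O P U hYn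
    let Z := ((ModSite.tensorCx (O.over U)).flip.obj (restrCx U P)).obj Yn
    have hZ := (bijective_adj adj φ (DerivedCategory.Q.obj Z)).2
      (bijective_postcomp l (killed_tensor hYn hnull (restrCx U P)) (R.map φ) hφ')
    let eZ := ((ModSite.extZero O U).mapDerivedCategoryFactors.app Z) ≪≫ eL.symm
    let eY := (ModSite.extZero O U).mapDerivedCategoryFactors.app Yn
    let S := DerivedCategory.Q.obj (j.obj Yn)
    have hE : Function.Bijective fun a : (ModSite.LTensorCx P).obj S ⟶ DerivedCategory.Q.obj X =>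
        a ≫ DerivedCategory.Q.map φ := by
      have : (fun a : (ModSite.LTensorCx P).obj S ⟶ DerivedCategory.Q.obj X => a ≫ DerivedCategory.Q.map φ) =
          eZ.homFromEquiv ∘ (fun a => a ≫ DerivedCategory.Q.map φ) ∘ eZ.homFromEquiv.symm := by
        funext a
        simp
      rw [this]
      exact (Equiv.bijective _).comp (hZ.comp (Equiv.bijective _))
    have : (fun a : (ModSite.extZero O U).mapDerivedCategory.obj (DerivedCategory.Q.obj Yn) ⟶
        DerivedCategory.Q.obj B => a ≫ DerivedCategory.Q.map β) =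
        eY.symm.homFromEquiv ∘ eT.symm.homToEquiv ∘
          (DerComp.RHomAdj P).homEquiv S (DerivedCategory.Q.obj Y) ∘ (fun a => a ≫ DerivedCategory.Q.map φ) ∘
          ((DerComp.RHomAdj P).homEquiv S (DerivedCategory.Q.obj X)).symm ∘ eB.homToEquiv ∘ eY.homFromEquiv := by
      funext a
      simp only [Function.comp_apply, Adjunction.homEquiv_naturality_right, Equiv.apply_symm_apply]
      simp [hβ]
    rw [this]
    exact (Equiv.bijective _).comp ((Equiv.bijective _).comp ((Equiv.bijective _).comp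
      (hE.comp ((Equiv.bijective _).comp ((Equiv.bijective _).comp (Equiv.bijective _))))))
  have : (fun a : (DerivedCategory.Q.obj ((kos l).obj Y₀))⟦n⟧ ⟶ DerivedCategory.Q.obj (R.obj B) =>
      a ≫ DerivedCategory.Q.map (R.map β)) =
      e₁.homFromEquiv ∘ (fun b => b ≫ DerivedCategory.Q.map (R.map β)) ∘ e₁.homFromEquiv.symm := by
    funext a
    simp
  rw [this]
  exact (Equiv.bijective _).comp (key.comp (Equiv.bijective _))

/-- `RHom(P, -)` commutes with derived completion. -/
theorem isIso_completion_rhom {A : IdealSh O} (hA : A.IsFiniteType) [HasDerCompletion O A]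
    (G : DerivedCategory (ModSite.Mod O))
    (h : IsDerComp O A ((DerComp.RHom P).obj ((derCompletion O A).obj G).obj)) :
    IsIso (((derCompletionAdj O A).homEquiv ((DerComp.RHom P).obj G)
      ⟨(DerComp.RHom P).obj ((derCompletion O A).obj G).obj, h⟩).symm
      ((DerComp.RHom P).map (toDerCompletion A G))) := by
  let t := (DerComp.RHom P).map (toDerCompletion A G)
  let g := ((derCompletionAdj O A).homEquiv ((DerComp.RHom P).obj G)
    ⟨(DerComp.RHom P).obj ((derCompletion O A).obj G).obj, h⟩).symm t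
  have hg : toDerCompletion A ((DerComp.RHom P).obj G) ≫ g.hom = t := by
    have := ((derCompletionAdj O A).homEquiv ((DerComp.RHom P).obj G)
      ⟨(DerComp.RHom P).obj ((derCompletion O A).obj G).obj, h⟩).apply_symm_apply t
    rw [(derCompletionAdj O A).homEquiv_unit] at this
    exact this
  suffices hi : IsIso g.hom by
    haveI : IsIso ((ObjectProperty.ι (IsDerComp O A)).map g) := hi
    exact isIso_of_reflects_iso g (ObjectProperty.ι (IsDerComp O A))
  obtain ⟨X, hX, -, ⟨eX⟩⟩ := exists_model G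
  obtain ⟨Y, hY, -, ⟨eY⟩⟩ := exists_model ((derCompletion O A).obj G).obj
  haveI := hX
  haveI := hY
  obtain ⟨φ, hφ⟩ := TriH.Q_map_surjective_of_isKInjective _ Y (eX.hom ≫ toDerCompletion A G ≫ eY.inv)
  obtain ⟨B, hB, -, ⟨eB⟩⟩ := exists_model ((DerComp.RHom P).obj G)
  obtain ⟨T, hT, hTinj, ⟨eT⟩⟩ := exists_model ((DerComp.RHom P).obj ((derCompletion O A).obj G).obj)
  haveI := hB
  haveI := hT
  obtain ⟨Q, hQ, hQinj, ⟨eP⟩⟩ := exists_model ((derCompletion O A).obj ((DerComp.RHom P).obj G)).obj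
  haveI := hQ
  obtain ⟨α, hα⟩ := TriH.Q_map_surjective_of_isKInjective _ Q
    (eB.hom ≫ toDerCompletion A ((DerComp.RHom P).obj G) ≫ eP.inv)
  obtain ⟨γ, hγ⟩ := TriH.Q_map_surjective_of_isKInjective _ T (eP.hom ≫ g.hom ≫ eT.inv)
  obtain ⟨β, hβ⟩ := TriH.Q_map_surjective_of_isKInjective _ T (eB.hom ≫ t ≫ eT.inv)
  have hQc : IsDerComp O A (DerivedCategory.Q.obj Q) := by
    rw [isDerComp_iff_le Q hQinj (Iso.refl _), ← isDerComp_iff_le Q hQinj eP]
    exact ((derCompletion O A).obj ((DerComp.RHom P).obj G)).property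
  have hTc : IsDerComp O A (DerivedCategory.Q.obj T) := by
    rw [isDerComp_iff_le T hTinj (Iso.refl _), ← isDerComp_iff_le T hTinj eT]
    exact h
  obtain ⟨Hγ⟩ : Nonempty (Homotopy (α ≫ γ) β) := by
    have h0 : DerivedCategory.Q.map (α ≫ γ - β) = 0 := by
      rw [Functor.map_sub, Functor.map_comp, hα, hγ, hβ, sub_eq_zero]
      simp only [Category.assoc, Iso.inv_hom_id_assoc]
      rw [← hg]
      simp only [Category.assoc]
    obtain ⟨H⟩ := (TriH.Q_map_eq_zero_iff_of_isKInjective _).1 h0
    exact ⟨Homotopy.equivSubZero.symm H⟩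
  haveI : (mappingCone α).IsKInjective := isKInjective_mappingCone α
  haveI : (mappingCone φ).IsKInjective := isKInjective_mappingCone φ
  haveI : QuasiIso γ := by
    refine quasiIso_of_local γ fun U => ?_
    obtain ⟨S, hS, hS'⟩ := hA U
    refine ⟨S, hS, fun V k hk => ?_⟩
    obtain ⟨r, a, hgen⟩ := hS' k hk
    let R := (ModSite.restr O V).mapHomologicalComplex (ComplexShape.up ℤ)
    have hmem : ∀ s ∈ genList a, ∃ i, s = GSec.ofSect O V (a i) ∧ a i ∈ A.ideal V := by
      intro s hs
      obtain ⟨b, hb, rfl⟩ := List.mem_map.1 hs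
      obtain ⟨i, rfl⟩ := (List.mem_ofFn' _ _).1 hb
      refine ⟨i, rfl, ?_⟩
      have h1 : (O.obj.map (Over.mk (𝟙 V)).hom.op).hom (a i) ∈ A.ideal V := hgen.1 i (Over.mk (𝟙 V))
      rwa [show (O.obj.map (Over.mk (𝟙 V)).hom.op).hom (a i) = a i from map_id_apply O V (a i)] at h1
    have horth : ∀ {X' Y' : CochainComplex (ModSite.Mod O) ℤ} {M : DerivedCategory (ModSite.Mod O)} (g : X' ⟶ Y')
        [(mappingCone g).IsKInjective] (eX : DerivedCategory.Q.obj X' ≅ M)
        (eY : DerivedCategory.Q.obj Y' ≅ ((derCompletion O A).obj M).obj),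
        DerivedCategory.Q.map g = eX.hom ≫ toDerCompletion A M ≫ eY.inv →
        ((kos (genList a)).obj (restrCx V (mappingCone g))).Acyclic := fun g _ eX eY hg =>
      acyclic_kos_of_orth A (genList a) (fun H hH T h hh => kills_of_gen a hgen H hH T h hh) _
        (fun S hS b => eq_zero_cone_toDerCompletion A _ g eX eY hg hS b)
    refine quasiIso_of_complete (genList a) (R.map α) (R.map β) (R.map γ) ?_ ?_ ?_ ?_ ?_
    · rw [← Functor.map_comp R]
      exact HomologicalComplexUpToQuasiIso.Q_map_eq_of_homotopy ((ModSite.restr O V).mapHomotopy Hγ)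
    · exact (acyclic_iff_of_quasiIso ((kos (genList a)).mapIso
        (mappingCone.mapHomologicalComplexIso α (ModSite.restr O V))).hom).1 (horth α eB eP hα)
    · exact acyclic_kos_rhom P V (genList a) φ (horth φ eX eY hφ) β
        (eB ≪≫ (DerComp.RHom P).mapIso eX.symm) (eT ≪≫ (DerComp.RHom P).mapIso eY.symm)
        (by simp [hβ, hφ, t])
    · intro s hs
      obtain ⟨i, rfl, hi⟩ := hmem s hs
      exact cpl_restr Q hQinj hQc (a i) hi
    · intro s hs
      obtain ⟨i, rfl, hi⟩ := hmem s hs
      exact cpl_restr T hTinj hTc (a i) hi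
  have : g.hom = eP.inv ≫ DerivedCategory.Q.map γ ≫ eT.hom := by simp [hγ]
  rw [this]
  infer_instance

end Groth.Agent.DerCompSec
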