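import Groth.Agent.DerCompSec.FlatKilled
import Groth.Agent.DerCompSec.RHomCompl
import Groth.Agent.DerCompRHom.Completion
import Groth.Agent.S13489

/-!
# Completion along a flat map inducing an isomorphism modulo the ideal
-/

set_option autoImplicit false
set_option linter.style.haveILetI false

universe u v w t v'

open ZeroObject CategoryTheory CategoryTheory.Limits Opposite HomologicalComplex CochainComplex

attribute [local instance] HasDerivedCategory.standard

namespace Groth.Agent.DerCompSec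

open DerComp Groth.Agent.ModGroth

section Abstract

variable {A : Type w} [Category.{v} A] [Abelian A] {R : Type t} [CommRing R] [Linear R A]

/-- A natural map to a linear functor commutes with iterated cones. -/
lemma exists_kos_iso_comp (F : A ⥤ A) [F.Additive] (e : 𝟭 A ⟶ F) (C : CochainComplex A ℤ) :
    ∀ l : List R, (∀ r ∈ l, ∀ X : A, F.map (r • 𝟙 X) = r • 𝟙 (F.obj X)) →
      ∃ ε : (F.mapHomologicalComplex (ComplexShape.up ℤ)).obj ((kos l).obj C) ≅
          (kos l).obj ((F.mapHomologicalComplex (ComplexShape.up ℤ)).obj C),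
        ∀ n, e.app (((kos l).obj C).X n) ≫ ε.hom.f n =
          ((kos l).map ((NatTrans.mapHomologicalComplex e (ComplexShape.up ℤ)).app C)).f n
  | [], _ => ⟨Iso.refl _, fun n => Category.comp_id _⟩
  | r :: l, hl => by
    obtain ⟨ε, hε⟩ := exists_kos_iso_comp F e C l fun s hs => hl s (List.mem_cons_of_mem _ hs)
    let X := (kos l).obj C
    let Fc := F.mapHomologicalComplex (ComplexShape.up ℤ)
    let X' := (kos l).obj (Fc.obj C)
    let κ : X ⟶ X' := (kos l).map ((NatTrans.mapHomologicalComplex e (ComplexShape.up ℤ)).app C)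
    have h : Fc.map (r • 𝟙 X) ≫ ε.hom = ε.hom ≫ (r • 𝟙 X') := by
      rw [show Fc.map (r • 𝟙 X) = r • 𝟙 (Fc.obj X) from map_smul_id F id r (hl r List.mem_cons_self) X,
        Linear.smul_comp, Category.id_comp, Linear.comp_smul, Category.comp_id]
    refine ⟨mappingCone.mapHomologicalComplexIso (r • 𝟙 X) F ≪≫ coneIso (Fc.map (r • 𝟙 X)) (r • 𝟙 X') ε h,
      fun n => ?_⟩
    change e.app ((mappingCone (r • 𝟙 X)).X n) ≫
        ((mappingCone.mapHomologicalComplexXIso (r • 𝟙 X) F n).hom ≫ (mappingCone.map _ _ ε.hom ε.hom h).f n) =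
      (mappingCone.map (r • 𝟙 X) (r • 𝟙 X') κ κ (by simp)).f n
    rw [mappingCone.mapHomologicalComplexXIso_eq _ F n (n + 1) rfl,
      mappingCone.ext_from_iff _ (n + 1) n rfl]
    have nat : ∀ {Y Z : A} (g : Y ⟶ Z), g ≫ e.app Z = e.app Y ≫ F.map g := fun g => e.naturality g
    simp only [mappingCone.mapHomologicalComplexXIso'_hom, mappingCone.map, mappingCone.inl_v_desc_f,
      mappingCone.inr_f_desc_f, HomologicalComplex.comp_f, Preadditive.add_comp, Preadditive.comp_add,
      Category.assoc, HomComplex.Cochain.zero_cochain_comp_v, HomComplex.Cochain.ofHom_v]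
    simp only [← Category.assoc, nat]
    simp only [Category.assoc, ← F.map_comp_assoc, mappingCone.inl_v_fst_v, mappingCone.inl_v_snd_v,
      mappingCone.inr_f_fst_v, mappingCone.inr_f_snd_v, F.map_id, F.map_zero, zero_comp, comp_zero, add_zero,
      zero_add, Category.id_comp]
    erw [mappingCone.inl_v_desc_f, mappingCone.inr_f_desc_f]
    refine ⟨?_, ?_⟩
    · simp only [HomComplex.Cochain.zero_cochain_comp_v, HomComplex.Cochain.ofHom_v]
      exact (Category.assoc _ _ _).symm.trans (congrArg (· ≫ (mappingCone.inl (r • 𝟙 X')).v (n + 1) n (by omega)) (hε (n + 1)))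
    · rw [HomologicalComplex.comp_f]
      exact (Category.assoc _ _ _).symm.trans (congrArg (· ≫ (mappingCone.inr (r • 𝟙 X')).f n) (hε n))

/-- A natural map is a quasi-isomorphism when it is bijective on homology. -/
lemma quasiIso_app_of_isIso_homology (F : A ⥤ A) [F.Additive] [F.PreservesHomology] (e : 𝟭 A ⟶ F)
    (K : CochainComplex A ℤ) (h : ∀ q, IsIso (e.app (K.homology q))) :
    QuasiIso ((NatTrans.mapHomologicalComplex e (ComplexShape.up ℤ)).app K) := by
  refine ⟨fun q => ?_⟩
  rw [quasiIsoAt_iff_isIso_homologyMap]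
  haveI := h q
  have h2 : IsIso (e.app (K.sc q).homology) := h q
  rw [NatTrans.app_homology e (K.sc q)] at h2
  haveI := h2
  have h3 : IsIso (ShortComplex.homologyMap ((K.sc q).mapNatTrans e)) := by
    have := IsIso.of_isIso_comp_left ((K.sc q).mapHomologyIso (𝟭 A)).inv
      (ShortComplex.homologyMap ((K.sc q).mapNatTrans e) ≫ ((K.sc q).mapHomologyIso F).hom)
    exact IsIso.of_isIso_comp_right _ ((K.sc q).mapHomologyIso F).hom
  exact h3

variable [HasDerivedCategory.{v'} A] (l : List R)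

/-- Objects killed by the list do not distinguish the ends of the map. -/
def KilledBij {X Y : CochainComplex A ℤ} (g : X ⟶ Y) : Prop :=
  ∀ T : DerivedCategory A, Killed l T →
    Function.Bijective fun a : T ⟶ DerivedCategory.Q.obj X => a ≫ DerivedCategory.Q.map g

lemma killedBij_iff {X Y : CochainComplex A ℤ} (g : X ⟶ Y) :
    KilledBij l g ↔ ((kos l).obj (mappingCone g)).Acyclic := by
  refine ⟨fun h => ?_, fun h T hT => bijective_postcomp l hT g h⟩
  refine acyclic_kos_of_killed l (𝟙 (mappingCone g))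
    (eq_zero_cone_of_bijective g fun n => h _ ((killed_Q fun s hs => null_kos hs _).shift n))

lemma killedBij_of_quasiIso {X Y : CochainComplex A ℤ} (g : X ⟶ Y) [QuasiIso g] : KilledBij l g := fun T _ =>
  (asIso (DerivedCategory.Q.map g)).homToEquiv.bijective

lemma KilledBij.comp {X Y Z : CochainComplex A ℤ} {g : X ⟶ Y} {g' : Y ⟶ Z} (h : KilledBij l g)
    (h' : KilledBij l g') : KilledBij l (g ≫ g') := fun T hT => by
  have : (fun a : T ⟶ DerivedCategory.Q.obj X => a ≫ DerivedCategory.Q.map (g ≫ g')) =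
      (fun a => a ≫ DerivedCategory.Q.map g') ∘ fun a => a ≫ DerivedCategory.Q.map g := by
    funext a
    simp
  rw [this]
  exact (h' T hT).comp (h T hT)

lemma KilledBij.of_comp_id {X Y : CochainComplex A ℤ} {g : X ⟶ Y} {g' : Y ⟶ X} (h : KilledBij l g)
    (h' : g ≫ g' = 𝟙 X) : KilledBij l g' := fun T hT => by
  refine (Function.Bijective.of_comp_iff _ (h T hT)).1 ?_
  have : (fun a => a ≫ DerivedCategory.Q.map g') ∘ (fun a : T ⟶ DerivedCategory.Q.obj X => a ≫ DerivedCategory.Q.map g) =
      id := by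
    funext a
    simp [← Functor.map_comp, h']
  rw [this]
  exact Function.bijective_id

/-- One cone detects bijectivity on killed objects. -/
lemma bijective_of_cone {L : List R} {r : R} (hr₀ : r ∈ L) {Xl Yl : CochainComplex A ℤ} (g' : Xl ⟶ Yl)
    (h : ∀ S : DerivedCategory A, Killed L S →
      Function.Bijective fun a : S ⟶ DerivedCategory.Q.obj ((coneFun r).obj Xl) =>
        a ≫ DerivedCategory.Q.map ((coneFun r).map g')) :
    ∀ S : DerivedCategory A, Killed L S →
      Function.Bijective fun a : S ⟶ DerivedCategory.Q.obj Xl => a ≫ DerivedCategory.Q.map g' := by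
  intro S hS
  let τ := DerivedCategory.Q.mapTriangle.map (mappingCone.triangleMap (r • 𝟙 Xl) (r • 𝟙 Yl) g' g' (by simp))
  let ΔX := DerivedCategory.Q.mapTriangle.obj (mappingCone.triangle (r • 𝟙 Xl))
  let ΔY := DerivedCategory.Q.mapTriangle.obj (mappingCone.triangle (r • 𝟙 Yl))
  have hX : ΔX ∈ Pretriangulated.distinguishedTriangles := DerivedCategory.mappingCone_triangle_distinguished _
  have hY : ΔY ∈ Pretriangulated.distinguishedTriangles := DerivedCategory.mappingCone_triangle_distinguished _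
  have h₃ : ∀ S' : DerivedCategory A, Killed L S' →
      Function.Bijective fun a : S' ⟶ ΔX.obj₃ => a ≫ τ.hom₃ := h
  have hr : ∀ {Z : CochainComplex A ℤ} {S' : DerivedCategory A}, Killed L S' →
      ∀ b : S' ⟶ DerivedCategory.Q.obj Z, b ≫ DerivedCategory.Q.map (r • 𝟙 Z) = 0 := fun {Z S'} hS' b => by
    rw [Functor.map_smul, DerivedCategory.Q.map_id, Linear.comp_smul, Category.comp_id, ← Category.id_comp b,
      ← Linear.smul_comp, hS' r hr₀, zero_comp]
  have inj : ∀ {S' : DerivedCategory A}, Killed L S' → ∀ a : S' ⟶ ΔX.obj₁,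
      a ≫ τ.hom₁ = 0 → a = 0 := fun {S'} hS' a ha => by
    let a' : S' ⟶ ΔX.obj₂ := a
    have ha' : a' ≫ ΔX.mor₂ = 0 := by
      refine (h₃ S' hS').1 ?_
      change (a' ≫ ΔX.mor₂) ≫ τ.hom₃ = 0 ≫ τ.hom₃
      rw [zero_comp, Category.assoc, τ.comm₂, ← Category.assoc]
      exact (congrArg (· ≫ ΔY.mor₂) ha).trans zero_comp
    obtain ⟨b, hb⟩ := Pretriangulated.Triangle.coyoneda_exact₂ ΔX hX a' ha'
    exact hb.trans (hr hS' b)
  refine ⟨fun a a' haa => sub_eq_zero.1 (inj hS _ ?_), fun c => ?_⟩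
  · change (a - a') ≫ DerivedCategory.Q.map g' = 0
    rw [Preadditive.sub_comp, sub_eq_zero]
    exact haa
  · let c' : S ⟶ ΔY.obj₂ := c
    obtain ⟨d, hd⟩ : ∃ d : S ⟶ ΔX.obj₃, d ≫ τ.hom₃ = c' ≫ ΔY.mor₂ :=
      (h₃ S hS).2 (c' ≫ ΔY.mor₂)
    have hd0 : d ≫ ΔX.mor₃ = 0 := by
      let e := shiftNegShift S (1 : ℤ)
      obtain ⟨u, hu⟩ := (CategoryTheory.shiftFunctor (DerivedCategory A) (1 : ℤ)).map_surjective
        (e.hom ≫ d ≫ ΔX.mor₃)
      have hu0 : u ≫ τ.hom₁ = 0 := (CategoryTheory.shiftFunctor (DerivedCategory A) (1 : ℤ)).map_injective (by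
        rw [Functor.map_comp, hu, Functor.map_zero, Category.assoc, Category.assoc, τ.comm₃,
          reassoc_of% hd]
        exact (congrArg (fun t => e.hom ≫ c' ≫ t) (Pretriangulated.comp_distTriang_mor_zero₂₃ ΔY hY)).trans
          (by simp))
      have : u = 0 := inj (hS.shift (-1)) u hu0
      rw [← cancel_epi e.hom, comp_zero, ← hu, this, Functor.map_zero]
    obtain ⟨a, ha⟩ := Pretriangulated.Triangle.coyoneda_exact₃ ΔX hX d hd0
    refine ⟨a, ?_⟩
    let a' : S ⟶ ΔX.obj₂ := a
    have h2 : (a' ≫ τ.hom₂ - c') ≫ ΔY.mor₂ = 0 := by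
      rw [Preadditive.sub_comp, Category.assoc, ← τ.comm₂, ← Category.assoc, sub_eq_zero]
      exact (congrArg (· ≫ τ.hom₃) ha.symm).trans hd
    obtain ⟨b, hb⟩ := Pretriangulated.Triangle.coyoneda_exact₂ ΔY hY _ h2
    exact sub_eq_zero.1 (hb.trans (hr hS b))

/-- A map with quasi-isomorphic iterated cone is bijective on killed objects. -/
lemma killedBij_of_quasiIso_kos {X Y : CochainComplex A ℤ} (g : X ⟶ Y) [QuasiIso ((kos l).map g)] :
    KilledBij l g := by
  suffices h : ∀ l' : List R, (∀ s ∈ l', s ∈ l) → (∀ S : DerivedCategory A, Killed l S →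
      Function.Bijective fun a : S ⟶ DerivedCategory.Q.obj ((kos l').obj X) =>
        a ≫ DerivedCategory.Q.map ((kos l').map g)) → KilledBij l g from
    h l (fun s hs => hs) fun S _ => (asIso (DerivedCategory.Q.map ((kos l).map g))).homToEquiv.bijective
  intro l'
  induction l' with
  | nil => exact fun _ h => h
  | cons r l' ih =>
    exact fun hl h => ih (fun s hs => hl s (List.mem_cons_of_mem _ hs))
      (bijective_of_cone (hl r List.mem_cons_self) ((kos l').map g) h)

end Abstract

section Local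

variable {C : Type u} [SmallCategory C] {J : GrothendieckTopology C} {O : Sheaf J CommRingCat.{u}}

lemma mem_ideal_of_gen {A : IdealSh O} {V : C} {r : ℕ} (a : Fin r → O.obj.obj (op V))
    (hgen : (A.over V).IsGenBy fun i => GSec.ofSect O V (a i)) {s : GSec (O.over V)} (hs : s ∈ genList a) :
    ∃ i, s = GSec.ofSect O V (a i) ∧ a i ∈ A.ideal V := by
  obtain ⟨b, hb, rfl⟩ := List.mem_map.1 hs
  obtain ⟨i, rfl⟩ := (List.mem_ofFn' _ _).1 hb
  refine ⟨i, rfl, ?_⟩
  have h1 : (O.obj.map (Over.mk (𝟙 V)).hom.op).hom (a i) ∈ A.ideal V := hgen.1 i (Over.mk (𝟙 V))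
  rwa [show (O.obj.map (Over.mk (𝟙 V)).hom.op).hom (a i) = a i from map_id_apply O V (a i)] at h1

/-- Locally invisible complexes are left orthogonal to complete objects. -/
theorem eq_zero_of_locally_invisible (A : IdealSh O) (W : CochainComplex (ModSite.Mod O) ℤ) [W.IsKInjective]
    (hW : ∀ U : C, ∃ S ∈ J U, ∀ ⦃V : C⦄ (g : V ⟶ U), S g → ∃ l : List (GSec (O.over V)),
      (∀ H : ModSite.Mod (O.over V), (∀ s ∈ l, smulEnd s H = 0) →
        ∀ (T : C) (h : O.obj.obj (op T)), h ∈ A.ideal T → Kills H T h) ∧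
      (∀ (I : CochainComplex (ModSite.Mod O) ℤ) [I.IsKInjective], (∀ m, Injective (I.X m)) →
        IsDerComp O A (DerivedCategory.Q.obj I) → ∀ s ∈ l, Cpl s (DerivedCategory.Q.obj (restrCx V I))) ∧
      ((kos l).obj (restrCx V W)).Acyclic)
    {T : DerivedCategory (ModSite.Mod O)} (hT : IsDerComp O A T) (a : DerivedCategory.Q.obj W ⟶ T) : a = 0 := by
  haveI := DerCompRHom.hasDerCompletion O A
  obtain ⟨P, hP, hPinj, ⟨eP⟩⟩ := exists_model ((derCompletion O A).obj (DerivedCategory.Q.obj W)).obj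
  haveI := hP
  obtain ⟨α, hα⟩ := TriH.Q_map_surjective_of_isKInjective _ P
    ((Iso.refl (DerivedCategory.Q.obj W)).hom ≫ toDerCompletion A (DerivedCategory.Q.obj W) ≫ eP.inv)
  haveI : (mappingCone α).IsKInjective := isKInjective_mappingCone α
  have hPc : IsDerComp O A (DerivedCategory.Q.obj P) := by
    rw [isDerComp_iff_le P hPinj (Iso.refl _), ← isDerComp_iff_le P hPinj eP]
    exact ((derCompletion O A).obj (DerivedCategory.Q.obj W)).property
  haveI : QuasiIso (0 : P ⟶ 0) := by
    refine quasiIso_of_local _ fun U => ?_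
    obtain ⟨S, hS, hS'⟩ := hW U
    refine ⟨S, hS, fun V g hg => ?_⟩
    obtain ⟨l, hk, hc, hac⟩ := hS' g hg
    have h1 := acyclic_kos_of_orth A l hk _
      (fun T hT b => eq_zero_cone_toDerCompletion A _ α (Iso.refl _) eP hα hT b)
    let R := (ModSite.restr O V).mapHomologicalComplex (ComplexShape.up ℤ)
    have h2 : ((kos l).obj (mappingCone (R.map α))).Acyclic :=
      (acyclic_iff_of_quasiIso ((kos l).mapIso (mappingCone.mapHomologicalComplexIso α (ModSite.restr O V))).hom).1 h1
    have h3 : 𝟙 (DerivedCategory.Q.obj (restrCx V P)) = 0 :=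
      (bijective_precomp l (R.map α) h2 (hc P hPinj hPc)).1 (by
        change DerivedCategory.Q.map (R.map α) ≫ 𝟙 _ = DerivedCategory.Q.map (R.map α) ≫ 0
        rw [comp_zero]
        exact eq_zero_of_acyclic l (hc P hPinj hPc) hac _)
    rw [← DerivedCategory.isIso_Q_map_iff_quasiIso]
    have hz : IsZero (R.obj (0 : CochainComplex (ModSite.Mod O) ℤ)) := R.map_isZero (isZero_zero _)
    exact isIso_of_source_target_iso_zero _ ((IsZero.iff_id_eq_zero _).2 h3).isoZero
      (DerivedCategory.Q.map_isZero hz).isoZero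
  have hP0 : IsZero (DerivedCategory.Q.obj P) :=
    (DerivedCategory.Q.map_isZero (isZero_zero _)).of_iso (asIso (DerivedCategory.Q.map (0 : P ⟶ 0)))
  obtain ⟨b, rfl⟩ := (bijective_toDerCompletion A (DerivedCategory.Q.obj W) hT).2 a
  change toDerCompletion A _ ≫ b = 0
  rw [(hP0.of_iso eP.symm).eq_of_src b 0, comp_zero]

end Local

variable {C : Type u} [SmallCategory C] {J : GrothendieckTopology C} {O O' : Sheaf J CommRingCat.{u}}
  (φ : O ⟶ O')

/-- Flatness and `O/I = O'/IO'`: the unit is invisible. -/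
theorem killedBij_unit {A : IdealSh O} {A' : IdealSh O'} (hA : IsIdealExt φ A A')
    (hflat : ModSite.IsFlat (alg φ))
    (hinj : ∀ (U : C) (f : O.obj.obj (op U)), (φ.hom.app (op U)).hom f ∈ A'.ideal U → f ∈ A.ideal U)
    (hsurj : ∀ (U : C) (f' : O'.obj.obj (op U)), ∃ S ∈ J U, ∀ ⦃W : C⦄ (g : W ⟶ U), S g →
      ∃ a : O.obj.obj (op W), (O'.obj.map g.op).hom f' - (φ.hom.app (op W)).hom a ∈ A'.ideal W)
    [(rmorOf φ).pull.Additive] {V : C} (l : List (GSec (O.over V)))
    (hk : ∀ H : ModSite.Mod (O.over V), (∀ s ∈ l, smulEnd s H = 0) →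
      ∀ (T : C) (h : O.obj.obj (op T)), h ∈ A.ideal T → Kills H T h)
    (Y : CochainComplex (ModSite.Mod O) ℤ) :
    KilledBij l (((ModSite.restr O V).mapHomologicalComplex (ComplexShape.up ℤ)).map
      (DerAdj.complexUnit (rmorOf φ).adj Y)) := by
  let B := algV φ V
  let eV := eB B (bU (alg φ) (algOne φ) V) (bU_res (alg φ) (algOne φ) (algOne_res φ) V)
  haveI : (tR B).Additive := tR_additive B
  have hfl := SiteMod.isFlat_restr hflat V
  haveI : PreservesFiniteLimits (tR B) := hfl.1
  haveI : PreservesFiniteColimits (tR B) := hfl.2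
  let R := (ModSite.restr O V).mapHomologicalComplex (ComplexShape.up ℤ)
  let X := R.obj Y
  let eX := (NatTrans.mapHomologicalComplex eV (ComplexShape.up ℤ)).app X
  haveI hq : QuasiIso ((kos l).map eX) := by
    obtain ⟨ε, hε⟩ := exists_kos_iso_comp (tR B) eV X l fun s _ M => by
      rw [smul_def, smul_def, Category.comp_id, Category.comp_id]
      exact tR_map_smulEnd B s M
    have h1 := quasiIso_app_of_isIso_homology (tR B) eV ((kos l).obj X) fun q =>
      isIso_eB_killed φ _ (hk _ fun s hs => smulEnd_homology_kos hs X q) hA hinj hsurj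
    let K0 : CochainComplex (ModSite.Mod (O.over V)) ℤ := (kos l).obj X
    let K1 : CochainComplex (ModSite.Mod (O.over V)) ℤ := ((tR B).mapHomologicalComplex (ComplexShape.up ℤ)).obj K0
    let η₀ : K0 ⟶ K1 := (NatTrans.mapHomologicalComplex eV (ComplexShape.up ℤ)).app K0
    have : ((kos l).map eX : K0 ⟶ (kos l).obj (((tR B).mapHomologicalComplex (ComplexShape.up ℤ)).obj X)) = η₀ ≫ ε.hom :=
      HomologicalComplex.hom_ext _ _ fun n => (hε n).symm
    change QuasiIso ((kos l).map eX : K0 ⟶ (kos l).obj (((tR B).mapHomologicalComplex (ComplexShape.up ℤ)).obj X))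
    rw [this]
    rw [← DerivedCategory.isIso_Q_map_iff_quasiIso, Functor.map_comp]
    exact @IsIso.comp_isIso _ _ _ _ _ _ _ ((DerivedCategory.isIso_Q_map_iff_quasiIso _ _).2 h1) inferInstance
  have h2 : KilledBij l eX := killedBij_of_quasiIso_kos l eX
  let θ : (tR (alg φ) ⋙ ModSite.restr O V) ≅ ModSite.restr O V ⋙ tR B := SiteMod.restrTensorIso O V (alg φ)
  let ψ := Functor.isoWhiskerRight (PsiIso φ).symm (ModSite.restr O V) ≪≫ θ
  have h3 : ∀ n, (ModSite.restr O V).map ((rmorOf φ).adj.unit.app (Y.X n)) ≫ ψ.hom.app (Y.X n) = eV.app (X.X n) := by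
    intro n
    rw [← eB_Psi φ (Y.X n)]
    refine Eq.trans ?_ (restr_map_eB (alg φ) (algOne φ) (algOne_res φ) V (Y.X n))
    haveI := isIso_Psi φ (Y.X n)
    simp only [ψ, θ, Iso.trans_hom, NatTrans.comp_app, Functor.isoWhiskerRight_hom, Functor.whiskerRight_app,
      Iso.symm_hom, ← Category.assoc, ← Functor.map_comp]
    refine congrArg (fun t => (ModSite.restr O V).map t ≫ _) ?_
    rw [Category.assoc]
    exact (congrArg (_ ≫ ·) ((PsiIso φ).app (Y.X n)).hom_inv_id).trans (Category.comp_id _)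
  let ψY := (NatIso.mapHomologicalComplex ψ (ComplexShape.up ℤ)).app Y
  have h4 : R.map (DerAdj.complexUnit (rmorOf φ).adj Y) = eX ≫ ψY.inv := by
    refine (Iso.eq_comp_inv ψY).2 ?_
    exact HomologicalComplex.hom_ext _ _ h3
  rw [h4]
  exact KilledBij.comp l h2 (killedBij_of_quasiIso l ψY.inv)

section Reflect

/-- Iterated cones that are acyclic after restriction of scalars are acyclic. -/
theorem acyclic_kos_of_push {V : C} {r : ℕ} (a : Fin r → O.obj.obj (op V))
    (W : CochainComplex (ModSite.Mod O') ℤ)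
    (h : ((kos (genList a)).obj (restrCx V (RpushLeft.pushCx (rmorOf φ) W))).Acyclic) :
    ((kos (pushList (rmorOf φ) a)).obj (restrCx ((rmorOf φ).fn.obj V) W)).Acyclic := by
  let ψ : O.over V ⟶ O'.over V := (J.overPullback CommRingCat.{u} V).map φ
  let RV : ModSite.Mod (O'.over V) ⥤ ModSite.Mod (O.over V) := (rmorOf ψ).push
  haveI : RV.Additive := ⟨rfl⟩
  haveI : RV.Faithful := faithful_push_rmorOf ψ
  haveI : PreservesFiniteLimits RV :=
    inferInstanceAs (PreservesFiniteLimits (SheafOfModules.restrictScalars.{u}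
      ((sheafCompose (J.over V) (forget₂ CommRingCat.{u} RingCat.{u})).map ψ)))
  haveI : PreservesFiniteColimits RV := by
    haveI : ∀ (K : Type) [SmallCategory K] [FinCategory K], PreservesColimitsOfShape K RV := fun K _ _ =>
      QCOverAlg.preservesColimitsOfShape_restrictScalars ((sheafCompose (J.over V) (forget₂ CommRingCat.{u} RingCat.{u})).map ψ) K
    exact ⟨fun K _ _ => inferInstance⟩
  obtain ⟨e⟩ := nonempty_kos_map_iso' RV
    (fun b => GSec.ofSect O' V ((φ.hom.app (op V)).hom b)) (fun b => GSec.ofSect O V b) (List.ofFn a)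
    (fun b _ M => by
      rw [smul_def, smul_def, Category.comp_id, Category.comp_id]
      ext Z x
      exact congrArg (fun t : O'.obj.obj (op Z.unop.left) =>
        (show (O'.over V).obj.obj (op Z.unop) from t) • (show ModSite.sect M Z.unop from x))
          (ConcreteCategory.congr_hom (φ.hom.naturality Z.unop.hom.op) b).symm)
    (restrCx V W)
  intro q
  rw [exactAt_iff_isZero_homology]
  have hz := ((exactAt_iff_isZero_homology _ _).1 (h q)).of_iso ((homologyFunctor _ _ q).mapIso e)
  have hz' : IsZero (RV.obj (((kos ((List.ofFn a).map fun b => GSec.ofSect O' V ((φ.hom.app (op V)).hom b))).obj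
      (restrCx V W)).homology q)) :=
    hz.of_iso ((((kos ((List.ofFn a).map fun b => GSec.ofSect O' V ((φ.hom.app (op V)).hom b))).obj
      (restrCx V W)).sc q).mapHomologyIso RV).symm
  rw [IsZero.iff_id_eq_zero]
  exact RV.map_injective (hz'.eq_of_src _ _)

end Reflect

/-- Cones of completion-like maps control precomposition. -/
lemma bijective_precomp_of_orth {A : Type (u + 1)} [Category.{u} A] [Abelian A] {X Y : CochainComplex A ℤ}
    (α : X ⟶ Y) {T : DerivedCategory A}
    (hv : ∀ (n : ℤ) (b : DerivedCategory.Q.obj (mappingCone α) ⟶ T⟦n⟧), b = 0) :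
    Function.Bijective fun g : DerivedCategory.Q.obj Y ⟶ T => DerivedCategory.Q.map α ≫ g := by
  let Δ := DerivedCategory.Q.mapTriangle.obj (mappingCone.triangle α)
  have hΔ : Δ ∈ Pretriangulated.distinguishedTriangles := DerivedCategory.mappingCone_triangle_distinguished _
  refine ⟨fun g g' h => sub_eq_zero.1 ?_, fun b => ?_⟩
  · obtain ⟨c, hc⟩ := Pretriangulated.Triangle.yoneda_exact₂ Δ hΔ (g - g') (by
      change DerivedCategory.Q.map α ≫ (g - g') = 0
      rw [Preadditive.comp_sub, sub_eq_zero]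
      exact h)
    have hc0 : c = 0 := by
      let z := ((shiftFunctorZero (DerivedCategory A) ℤ).app T).inv
      exact (cancel_mono z).1 ((hv 0 (c ≫ z)).trans zero_comp.symm)
    exact hc.trans ((congrArg (Δ.mor₂ ≫ ·) hc0).trans comp_zero)
  · obtain ⟨g₁, hg₁⟩ := Pretriangulated.Triangle.yoneda_exact₃ Δ.rotate
      (Pretriangulated.rot_of_distTriang _ hΔ) (b⟦(1 : ℤ)⟧') (hv 1 (Δ.mor₃ ≫ b⟦(1 : ℤ)⟧'))
    obtain ⟨g, rfl⟩ := (CategoryTheory.shiftFunctor (DerivedCategory A) (1 : ℤ)).map_surjective g₁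
    let g₂ : DerivedCategory.Q.obj Y ⟶ T := g
    refine ⟨-g₂, (CategoryTheory.shiftFunctor (DerivedCategory A) (1 : ℤ)).map_injective (Eq.trans ?_ hg₁.symm)⟩
    change (DerivedCategory.Q.map α ≫ (-g₂))⟦(1 : ℤ)⟧' = (-((DerivedCategory.Q.map α)⟦(1 : ℤ)⟧')) ≫ g₂⟦(1 : ℤ)⟧'
    rw [Preadditive.comp_neg, Functor.map_neg, Functor.map_comp, Preadditive.neg_comp]

section Main

variable {A : IdealSh O} (hfin : A.IsFiniteType) {A' : IdealSh O'} (hA : IsIdealExt φ A A')
  (hflat : ModSite.IsFlat (alg φ))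
  (hinj : ∀ (U : C) (f : O.obj.obj (op U)), (φ.hom.app (op U)).hom f ∈ A'.ideal U → f ∈ A.ideal U)
  (hsurj : ∀ (U : C) (f' : O'.obj.obj (op U)), ∃ S ∈ J U, ∀ ⦃W : C⦄ (g : W ⟶ U), S g →
    ∃ a : O.obj.obj (op W), (O'.obj.map g.op).hom f' - (φ.hom.app (op W)).hom a ∈ A'.ideal W)
  [PreservesFiniteLimits (SheafOfModules.restrictScalars.{u}
    ((sheafCompose J (forget₂ CommRingCat.{u} RingCat.{u})).map φ))]
  [PreservesFiniteColimits (SheafOfModules.restrictScalars.{u}
    ((sheafCompose J (forget₂ CommRingCat.{u} RingCat.{u})).map φ))]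

instance : PreservesFiniteLimits (rmorOf φ).push :=
  inferInstanceAs (PreservesFiniteLimits (SheafOfModules.restrictScalars.{u}
    ((sheafCompose J (forget₂ CommRingCat.{u} RingCat.{u})).map φ)))

instance : PreservesFiniteColimits (rmorOf φ).push :=
  inferInstanceAs (PreservesFiniteColimits (SheafOfModules.restrictScalars.{u}
    ((sheafCompose J (forget₂ CommRingCat.{u} RingCat.{u})).map φ)))

include hfin hA hflat hinj hsurj in
/-- Restriction of scalars is fully faithful on complete objects. -/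
theorem bijective_restrictScalars (K' L' : DerivedCategory (ModSite.Mod O')) (hL : IsDerComp O' A' L') :
    Function.Bijective fun ψ : K' ⟶ L' => (rmorOf φ).push.mapDerivedCategory.map ψ := by
  let f := rmorOf φ
  haveI := preservesFiniteLimits_pull φ hflat
  haveI : PreservesColimitsOfSize.{0, 0} f.pull := f.adj.leftAdjoint_preservesColimits
  haveI : PreservesFiniteColimits f.pull := PreservesColimitsOfSize.preservesFiniteColimits _
  haveI : f.pull.Additive := f.adj.left_adjoint_additive
  obtain ⟨X, hX, -, ⟨eX⟩⟩ := exists_model K'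
  obtain ⟨Y, hY, hYinj, ⟨eY⟩⟩ := exists_model L'
  haveI := hX
  haveI := hY
  let Rc := f.push.mapHomologicalComplex (ComplexShape.up ℤ)
  let LRX := (f.pull.mapHomologicalComplex (ComplexShape.up ℤ)).obj (Rc.obj X)
  let ε : LRX ⟶ X := DerAdj.complexCounit f.adj X
  haveI := sheaf_isGrothendieckAbelian (ModSite.ringSh O')
  obtain ⟨B, q, hB, hq, -, -⟩ := TriH.exists_kInjective_resolution LRX
  haveI := hB
  haveI := hq
  obtain ⟨ε', hε'⟩ := TriH.Q_map_surjective_of_isKInjective _ X (inv (DerivedCategory.Q.map q) ≫ DerivedCategory.Q.map ε)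
  obtain ⟨Hq⟩ : Nonempty (Homotopy (ε ≫ 𝟙 X) (q ≫ ε')) := by
    have h0 : DerivedCategory.Q.map (ε - q ≫ ε') = 0 := by
      rw [Functor.map_sub, Functor.map_comp, hε', IsIso.hom_inv_id_assoc, sub_self]
    obtain ⟨H⟩ := (TriH.Q_map_eq_zero_iff_of_isKInjective _).1 h0
    exact ⟨(Homotopy.ofEq (Category.comp_id _)).trans (Homotopy.equivSubZero.symm H)⟩
  haveI : (mappingCone ε').IsKInjective := isKInjective_mappingCone ε'
  have horth : ∀ {T : DerivedCategory (ModSite.Mod O')}, IsDerComp O' A' T →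
      ∀ b : DerivedCategory.Q.obj (mappingCone ε') ⟶ T, b = 0 := fun {T} hT b => by
    refine eq_zero_of_locally_invisible A' (mappingCone ε') (fun U => ?_) hT b
    obtain ⟨S, hS, hS'⟩ := hfin U
    refine ⟨S, hS, fun V g hg => ?_⟩
    obtain ⟨r, a, hgen⟩ := hS' g hg
    refine ⟨pushList f a, fun H hH T h hh => kills_of_isGenBy f (H := H) a ⟨hA.1, hA.2⟩ hgen hH T h hh, ?_, ?_⟩
    · intro I _ hI hIc s hs
      obtain ⟨b, hb, rfl⟩ := List.mem_map.1 hs
      obtain ⟨i, -, hi⟩ := mem_ideal_of_gen a hgen (s := GSec.ofSect O V b) (List.mem_map.2 ⟨b, hb, rfl⟩)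
      obtain ⟨j, rfl⟩ := (List.mem_ofFn' _ _).1 hb
      refine cpl_restr I hI hIc _ (hA.1 V _ ?_)
      have h1 : (O.obj.map (Over.mk (𝟙 V)).hom.op).hom (a j) ∈ A.ideal V := hgen.1 j (Over.mk (𝟙 V))
      rwa [show (O.obj.map (Over.mk (𝟙 V)).hom.op).hom (a j) = a j from map_id_apply O V (a j)] at h1
    · let Rr := (ModSite.restr O V).mapHomologicalComplex (ComplexShape.up ℤ)
      let R' := (ModSite.restr O' (f.fn.obj V)).mapHomologicalComplex (ComplexShape.up ℤ)
      haveI : QuasiIso (mappingCone.mapOfHomotopy Hq) := quasiIso_mapOfHomotopy Hq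
      haveI := quasiIso_kos (pushList f a) (R'.map (mappingCone.mapOfHomotopy Hq)) inferInstance
      refine (acyclic_iff_of_quasiIso ((kos (pushList f a)).map (R'.map (mappingCone.mapOfHomotopy Hq)))).1 ?_
      refine acyclic_kos_of_push φ a (mappingCone ε) ?_
      have hu : KilledBij (genList a) (Rr.map (Rc.map ε)) := by
        refine KilledBij.of_comp_id _ (killedBij_unit φ hA hflat hinj hsurj (genList a)
          (fun H hH T h hh => kills_of_gen a hgen H hH T h hh) (Rc.obj X)) ?_
        refine (Functor.map_comp Rr _ _).symm.trans ?_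
        refine (congrArg Rr.map ?_).trans (Rr.map_id _)
        exact HomologicalComplex.hom_ext _ _ fun n => f.adj.right_triangle_components (X.X n)
      let e := mappingCone.mapHomologicalComplexIso ε f.push
      refine (acyclic_iff_of_quasiIso ((kos (genList a)).mapIso (Rr.mapIso e ≪≫
        mappingCone.mapHomologicalComplexIso (Rc.map ε) (ModSite.restr O V))).hom).2 ?_
      exact (killedBij_iff _ _).1 hu
  have hbij : Function.Bijective fun ψ : DerivedCategory.Q.obj X ⟶ L' => DerivedCategory.Q.map ε' ≫ ψ :=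
    bijective_precomp_of_orth ε' fun n b => horth (isDerComp_shift hL n) b
  let fac := f.push.mapDerivedCategoryFactors
  haveI : CochainComplex.IsKInjective (Rc.obj Y) := TriH.isKInjective_map_of_adjunction _ _ f.adj Y
  -- the map on models
  let Φ : (DerivedCategory.Q.obj X ⟶ DerivedCategory.Q.obj Y) →
      (DerivedCategory.Q.obj (Rc.obj X) ⟶ DerivedCategory.Q.obj (Rc.obj Y)) := fun ψ =>
    fac.inv.app X ≫ f.push.mapDerivedCategory.map ψ ≫ fac.hom.app Y
  have hadj : ∀ ψ, adjMap f.adj Y (Φ ψ) =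
      f.pull.mapDerivedCategoryFactors.hom.app (Rc.obj X) ≫ DerivedCategory.Q.map q ≫
        DerivedCategory.Q.map ε' ≫ ψ := by
    intro ψ
    obtain ⟨g, rfl⟩ := TriH.Q_map_surjective_of_isKInjective _ Y ψ
    have h1 : Φ (DerivedCategory.Q.map g) = DerivedCategory.Q.map (Rc.map g) := by
      have := fac.hom.naturality g
      simp only [Functor.comp_map] at this
      simp only [Φ]
      rw [this, Iso.inv_hom_id_app_assoc]
    rw [h1, adjMap, ← Category.assoc, hε']
    simp only [Category.assoc (inv (DerivedCategory.Q.map q)), IsIso.hom_inv_id_assoc]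
    have hn : (f.pull.mapHomologicalComplex (ComplexShape.up ℤ)).map (Rc.map g) ≫ DerAdj.complexCounit f.adj Y =
        ε ≫ g := HomologicalComplex.hom_ext _ _ fun n => f.adj.counit.naturality (g.f n)
    refine (congrArg (· ≫ _) (f.pull.mapDerivedCategoryFactors.hom.naturality (Rc.map g))).trans ?_
    refine (Category.assoc _ _ _).trans (congrArg (_ ≫ ·) ?_)
    change DerivedCategory.Q.map _ ≫ DerivedCategory.Q.map _ = _
    rw [← Functor.map_comp, hn, Functor.map_comp]
  have hbij' : Function.Bijective fun ψ : DerivedCategory.Q.obj X ⟶ DerivedCategory.Q.obj Y =>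
      DerivedCategory.Q.map ε' ≫ ψ := by
    have : (fun ψ : DerivedCategory.Q.obj X ⟶ DerivedCategory.Q.obj Y => DerivedCategory.Q.map ε' ≫ ψ) =
        eY.symm.homToEquiv ∘ (fun ψ => DerivedCategory.Q.map ε' ≫ ψ) ∘ eY.homToEquiv := by
      funext ψ
      simp
    rw [this]
    exact (Equiv.bijective _).comp (hbij.comp (Equiv.bijective _))
  have hΦ : Function.Bijective Φ := by
    refine (Function.Bijective.of_comp_iff' (adjMap_bijective f.adj Y _) Φ).1 ?_
    have : adjMap f.adj Y ∘ Φ = (f.pull.mapDerivedCategoryFactors.app (Rc.obj X)).symm.homFromEquiv ∘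
        (asIso (DerivedCategory.Q.map q)).symm.homFromEquiv ∘ (fun ψ => DerivedCategory.Q.map ε' ≫ ψ) := by
      funext ψ
      simp only [Function.comp_apply, hadj]
      simp
    rw [this]
    exact (Equiv.bijective _).comp ((Equiv.bijective _).comp hbij')
  have : (fun ψ : K' ⟶ L' => f.push.mapDerivedCategory.map ψ) =
      (f.push.mapDerivedCategory.mapIso eY).homToEquiv ∘ (f.push.mapDerivedCategory.mapIso eX).homFromEquiv ∘
        (fac.app X).symm.homFromEquiv ∘ (fac.app Y).symm.homToEquiv ∘ Φ ∘ eY.symm.homToEquiv ∘ eX.symm.homFromEquiv := by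
    funext ψ
    simp [Φ, ← Functor.map_comp]
  rw [this]
  exact (Equiv.bijective _).comp ((Equiv.bijective _).comp ((Equiv.bijective _).comp ((Equiv.bijective _).comp
    (hΦ.comp ((Equiv.bijective _).comp (Equiv.bijective _))))))

include hfin hA hflat hinj hsurj in
/-- Complete objects come from complete objects. -/
theorem exists_preimage (E : DerivedCategory (ModSite.Mod O)) (hE : IsDerComp O A E) :
    ∃ K' : DerivedCategory (ModSite.Mod O'), IsDerComp O' A' K' ∧
      Nonempty ((rmorOf φ).push.mapDerivedCategory.obj K' ≅ E) := by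
  let f := rmorOf φ
  haveI := preservesFiniteLimits_pull φ hflat
  haveI : PreservesColimitsOfSize.{0, 0} f.pull := f.adj.leftAdjoint_preservesColimits
  haveI : PreservesFiniteColimits f.pull := PreservesColimitsOfSize.preservesFiniteColimits _
  haveI : f.pull.Additive := f.adj.left_adjoint_additive
  haveI := DerCompRHom.hasDerCompletion O' A'
  obtain ⟨Y, hY, hYinj, ⟨eY⟩⟩ := exists_model E
  haveI := hY
  have hYc : IsDerComp O A (DerivedCategory.Q.obj Y) := by
    rw [isDerComp_iff_le Y hYinj (Iso.refl _), ← isDerComp_iff_le Y hYinj eY]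
    exact hE
  let LY := (f.pull.mapHomologicalComplex (ComplexShape.up ℤ)).obj Y
  haveI := sheaf_isGrothendieckAbelian (ModSite.ringSh O')
  obtain ⟨X₁, q, hX₁, hq, -, -⟩ := TriH.exists_kInjective_resolution LY
  haveI := hX₁
  haveI := hq
  obtain ⟨X, hX, hXinj, ⟨eX⟩⟩ := exists_model ((derCompletion O' A').obj (DerivedCategory.Q.obj X₁)).obj
  haveI := hX
  obtain ⟨α, hα⟩ := TriH.Q_map_surjective_of_isKInjective _ X
    ((Iso.refl (DerivedCategory.Q.obj X₁)).hom ≫ toDerCompletion A' (DerivedCategory.Q.obj X₁) ≫ eX.inv)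
  haveI : (mappingCone α).IsKInjective := isKInjective_mappingCone α
  have hXc : IsDerComp O' A' (DerivedCategory.Q.obj X) := by
    rw [isDerComp_iff_le X hXinj (Iso.refl _), ← isDerComp_iff_le X hXinj eX]
    exact ((derCompletion O' A').obj (DerivedCategory.Q.obj X₁)).property
  let Rc := f.push.mapHomologicalComplex (ComplexShape.up ℤ)
  haveI : CochainComplex.IsKInjective (Rc.obj X) := TriH.isKInjective_map_of_adjunction _ _ f.adj X
  have hRinj : ∀ m, Injective ((Rc.obj X).X m) := fun m => f.adj.map_injective _ (hXinj m)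
  let fac := f.push.mapDerivedCategoryFactors.app X
  have hRc : IsDerComp O A (f.push.mapDerivedCategory.obj (DerivedCategory.Q.obj X)) :=
    (S13489.result φ A A' hA _).1 hXc
  have hRXc : IsDerComp O A (DerivedCategory.Q.obj (Rc.obj X)) := by
    rw [isDerComp_iff_le (Rc.obj X) hRinj (Iso.refl _), ← isDerComp_iff_le (Rc.obj X) hRinj fac.symm]
    exact hRc
  let θ : Y ⟶ Rc.obj X := (DerAdj.complexUnit f.adj Y ≫ Rc.map q) ≫ Rc.map α
  haveI : QuasiIso θ := by
    refine quasiIso_of_local θ fun U => ?_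
    obtain ⟨S, hS, hS'⟩ := hfin U
    refine ⟨S, hS, fun V g hg => ?_⟩
    obtain ⟨r, a, hgen⟩ := hS' g hg
    let Rr := (ModSite.restr O V).mapHomologicalComplex (ComplexShape.up ℤ)
    have hk : ∀ H : ModSite.Mod (O.over V), (∀ s ∈ genList a, smulEnd s H = 0) →
        ∀ (T : C) (h : O.obj.obj (op T)), h ∈ A.ideal T → Kills H T h :=
      fun H hH T h hh => kills_of_gen a hgen H hH T h hh
    have h1 := killedBij_unit φ hA hflat hinj hsurj (genList a) hk Y
    haveI : QuasiIso (Rc.map q) := inferInstance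
    have h2 : KilledBij (genList a) (Rr.map (Rc.map q)) :=
      haveI : QuasiIso (Rr.map (Rc.map q)) := inferInstance
      killedBij_of_quasiIso _ _
    have h3 : KilledBij (genList a) (Rr.map (Rc.map α)) := by
      rw [killedBij_iff]
      have hb := acyclic_kos_of_orth A' (pushList f a)
        (fun H hH T h hh => kills_of_isGenBy f (H := H) a ⟨hA.1, hA.2⟩ hgen hH T h hh) _
        (fun T hT b => eq_zero_cone_toDerCompletion A' _ α (Iso.refl _) eX hα hT b)
      exact (acyclic_iff_of_quasiIso ((kos (genList a)).mapIso (Rr.mapIso (mappingCone.mapHomologicalComplexIso α f.push) ≪≫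
        mappingCone.mapHomologicalComplexIso (Rc.map α) (ModSite.restr O V))).hom).1
          (acyclic_kos_push f a (mappingCone α) hb)
    have hθ : ((kos (genList a)).obj (mappingCone (Rr.map θ))).Acyclic := by
      rw [← killedBij_iff, show Rr.map θ = (Rr.map (DerAdj.complexUnit f.adj Y) ≫ Rr.map (Rc.map q)) ≫ Rr.map (Rc.map α) by
        simp only [θ, Functor.map_comp]]
      exact KilledBij.comp _ (KilledBij.comp _ h1 h2) h3
    refine quasiIso_of_complete (genList a) (Rr.map (𝟙 Y)) (Rr.map θ) (Rr.map θ) ?_ ?_ hθ ?_ ?_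
    · rw [← Functor.map_comp Rr, Category.id_comp]
    · rw [← killedBij_iff]
      exact killedBij_of_quasiIso _ _
    · intro s hs
      obtain ⟨i, rfl, hi⟩ := mem_ideal_of_gen a hgen hs
      exact cpl_restr Y hYinj hYc _ hi
    · intro s hs
      obtain ⟨i, rfl, hi⟩ := mem_ideal_of_gen a hgen hs
      exact cpl_restr (Rc.obj X) hRinj hRXc _ hi
  exact ⟨DerivedCategory.Q.obj X, hXc, ⟨fac ≪≫ (asIso (DerivedCategory.Q.map θ)).symm ≪≫ eY⟩⟩

end Main

end Groth.Agent.DerCompSec
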