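import Groth.Agent.DerCompSec.FlatExt
import Groth.Agent.DerCompSec.Test

/-!
# Killed modules do not see the difference between `O` and `O'`
-/

set_option autoImplicit false
set_option linter.style.haveILetI false

universe u

open CategoryTheory CategoryTheory.Limits Opposite MonoidalCategory
open scoped TensorProduct

namespace Groth.Agent.DerCompSec

open DerComp Groth.Agent.ModGroth
open Groth.Agent.PullFlat (Loc)

variable {C : Type u} [SmallCategory C] {J : GrothendieckTopology C} {O O' : Sheaf J CommRingCat.{u}}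
  (φ : O ⟶ O') {V : C} (H : ModSite.Mod (O.over V))

/-- `O'|V`, as a module. -/
noncomputable abbrev algV (V : C) : ModSite.Mod (O.over V) := (ModSite.restr O V).obj (alg φ)

/-- Sections of `H` at `W`. -/
abbrev SH (W : Over V) : Type u := ((fg (O.over V)).obj H).obj (op W)

noncomputable instance shModule (W : Over V) : Module ((O.over V).obj.obj (op W)) (SH H W) :=
  inferInstanceAs (Module ((ModSite.ringSh (O.over V)).obj.obj (op W)) (H.val.obj (op W)))

/-- Sections of `H ⊗ O'` at `W`, before sheafification. -/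
noncomputable abbrev PT : PM (O.over V) := (fg (O.over V)).obj H ⊗ (fg (O.over V)).obj (algV φ V)

/-- A section of `O'`, as a section of the module. -/
abbrev asAlg (W : Over V) (c : O'.obj.obj (op W.left)) : ((fg (O.over V)).obj (algV φ V)).obj (op W) := c

/-- `h ⊗ c`. -/
noncomputable abbrev tp (W : Over V) (h : SH H W) (c : O'.obj.obj (op W.left)) : (PT φ H).obj (op W) :=
  h ⊗ₜ[(O.over V).obj.obj (op W)] asAlg φ W c

lemma res_tp {W W' : Over V} (k : W' ⟶ W) (h : SH H W) (c : O'.obj.obj (op W.left)) :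
    res (PT φ H) k.op (tp φ H W h c) =
      tp φ H W' (res ((fg (O.over V)).obj H) k.op h) ((O'.obj.map k.left.op).hom c) := rfl

lemma tp_smul (W : Over V) (r : O.obj.obj (op W.left)) (h : SH H W) (c : O'.obj.obj (op W.left)) :
    tp φ H W h ((φ.hom.app (op W.left)).hom r * c) =
      tp φ H W ((show (O.over V).obj.obj (op W) from r) • h) c :=
  (TensorProduct.smul_tmul (show (O.over V).obj.obj (op W) from r) h (asAlg φ W c)).symm

/-- A covering of the object below gives one in the slice. -/
lemma over_loc {W : Over V} {S : Sieve W.left} (hS : S ∈ J W.left) :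
    Loc (J.over V) fun Z (g : Z ⟶ W) => S g.left :=
  ⟨(Sieve.overEquiv W).symm S, by rw [GrothendieckTopology.mem_over_iff, OrderIso.apply_symm_apply]; exact hS,
    fun _ _ hg => hg⟩

/-- `h ⊗ c` is locally zero. -/
def TpZero (W : Over V) (h : SH H W) (c : O'.obj.obj (op W.left)) : Prop :=
  (eta' (PT φ H)).app (op W) (tp φ H W h c) = 0

lemma tpZero_iff_loc (W : Over V) (h : SH H W) (c : O'.obj.obj (op W.left)) (hz : TpZero φ H W h c) :
    Loc (J.over V) fun Z (g : Z ⟶ W) => res (PT φ H) g.op (tp φ H W h c) = 0 := by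
  obtain ⟨hi, -⟩ := (isLocallyBijective_pmap_iff (eta' (PT φ H))).1 (isIso_sheafify_eta _)
  refine ⟨_, Presheaf.equalizerSieve_mem (J.over V) (pmap (eta' (PT φ H))) (X := op W) (tp φ H W h c) 0
    (hz.trans (map_zero ((eta' (PT φ H)).app (op W)).hom).symm), fun Z g hg => ?_⟩
  exact hg.trans (map_zero (res (PT φ H) g.op))

/-- The sections of `O'` killing `H ⊗ O'`. -/
noncomputable def tensorKill : IdealSh O' where
  ideal T :=
    { carrier := {f | ∀ (W : Over V) (k : W.left ⟶ T) (h : SH H W) (c : O'.obj.obj (op W.left)),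
        TpZero φ H W h (c * (O'.obj.map k.op).hom f)}
      add_mem' := fun {a b} ha hb W k h c => by
        rw [map_add, mul_add]
        unfold TpZero
        refine (congrArg _ (TensorProduct.tmul_add h _ _)).trans ?_
        refine (map_add ((eta' (PT φ H)).app (op W)).hom _ _).trans ?_
        exact (congrArg₂ (· + ·) (ha W k h c) (hb W k h c)).trans (add_zero _)
      zero_mem' := fun W k h c => by
        rw [map_zero, mul_zero]
        exact (congrArg _ (TensorProduct.tmul_zero _ h)).trans (map_zero ((eta' (PT φ H)).app (op W)).hom)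
      smul_mem' := fun a f hf W k h c => by
        rw [smul_eq_mul, map_mul, ← mul_assoc]
        exact hf W k h _ }
  map_mem {T T'} g f hf W k h c := by
    have := hf W (k ≫ g) h c
    rwa [op_comp, O'.obj.map_comp] at this
  glue {T f} S hS hf W k h c := by
    refine SiteMod.mod_eq_of_loc ((sh (O.over V)).obj (PT φ H))
      (Loc.mono (over_loc (J.pullback_stable k hS)) fun Z g hg => ?_)
    rw [map_zero]
    refine (res_app (eta' (PT φ H)) g.op _).symm.trans ?_
    have := hf (g.left ≫ k) hg Z (𝟙 _) (res ((fg (O.over V)).obj H) g.op h) ((O'.obj.map g.left.op).hom c)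
    rw [res_tp, map_mul]
    refine Eq.trans ?_ this
    refine congrArg (fun t => (eta' (PT φ H)).app (op Z) (tp φ H Z _ (_ * t))) ?_
    rw [op_id, O'.obj.map_id, op_comp, O'.obj.map_comp]
    rfl

variable {A : IdealSh O} (hH : ∀ (T : C) (h : O.obj.obj (op T)), h ∈ A.ideal T → Kills H T h)

include hH in
lemma smul_eq_zero_of_mem (W : Over V) (r : O.obj.obj (op W.left)) (hr : r ∈ A.ideal W.left) (x : SH H W) :
    (show (O.over V).obj.obj (op W) from r) • x = 0 := by
  have h := hH W.left r hr (𝟙 W.left) W.hom x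
  rwa [map_id_apply] at h

variable {A' : IdealSh O'} (hA : IsIdealExt φ A A')

include hH hA in
lemma tpZero_of_mem (W : Over V) (h : SH H W) (i : O'.obj.obj (op W.left)) (hi : i ∈ A'.ideal W.left) :
    TpZero φ H W h i := by
  have hle : A' ≤ tensorKill φ H := hA.2 _ fun T a ha W k x c => by
    have e : c * (O'.obj.map k.op).hom ((φ.hom.app (op T)).hom a) =
        (φ.hom.app (op W.left)).hom ((O.obj.map k.op).hom a) * c := by
      rw [mul_comm]
      exact congrArg (· * c) (ConcreteCategory.congr_hom (φ.hom.naturality k.op) a).symm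
    rw [e, TpZero, tp_smul, smul_eq_zero_of_mem H hH W _ (A.map_mem k ha)]
    exact (congrArg _ (TensorProduct.zero_tmul _ _)).trans (map_zero ((eta' (PT φ H)).app (op W)).hom)
  have := hle W.left hi W (𝟙 _) h 1
  rwa [one_mul, op_id, O'.obj.map_id] at this

variable (hinj : ∀ (U : C) (f : O.obj.obj (op U)), (φ.hom.app (op U)).hom f ∈ A'.ideal U → f ∈ A.ideal U)
  (hsurj : ∀ (U : C) (f' : O'.obj.obj (op U)), ∃ S ∈ J U, ∀ ⦃W : C⦄ (g : W ⟶ U), S g →
    ∃ a : O.obj.obj (op W), (O'.obj.map g.op).hom f' - (φ.hom.app (op W)).hom a ∈ A'.ideal W)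

/-- `t` represents `h ⊗ c` at `k`. -/
def RepAt (W : Over V) (h : SH H W) (c : O'.obj.obj (op W.left)) ⦃Z : Over V⦄ (k : Z ⟶ W) (t : SH H Z) : Prop :=
  ∃ a : O.obj.obj (op Z.left), (O'.obj.map k.left.op).hom c - (φ.hom.app (op Z.left)).hom a ∈ A'.ideal Z.left ∧
    t = (show (O.over V).obj.obj (op Z) from a) • res ((fg (O.over V)).obj H) k.op h

lemma repAt_res (W : Over V) (h : SH H W) (c : O'.obj.obj (op W.left)) ⦃Z Z' : Over V⦄ (k : Z ⟶ W)
    (l : Z' ⟶ Z) (t : SH H Z) (ht : RepAt φ H (A' := A') W h c k t) :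
    RepAt φ H (A' := A') W h c (l ≫ k) (res ((fg (O.over V)).obj H) l.op t) := by
  obtain ⟨a, ha, rfl⟩ := ht
  refine ⟨(O.obj.map l.left.op).hom a, ?_, ?_⟩
  · have := A'.map_mem l.left ha
    rw [map_sub] at this
    rw [Over.comp_left, op_comp, O'.obj.map_comp]
    have e : (O'.obj.map l.left.op).hom ((φ.hom.app (op Z.left)).hom a) =
        (φ.hom.app (op Z'.left)).hom ((O.obj.map l.left.op).hom a) :=
      (ConcreteCategory.congr_hom (φ.hom.naturality l.left.op) a).symm
    rw [e] at this
    exact this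
  · rw [res_smul]
    exact congrArg ((show (O.over V).obj.obj (op Z') from (O.obj.map l.left.op).hom a) • ·)
      (res_comp ((fg (O.over V)).obj H) k.op l.op h).symm

include hH hinj in
lemma repAt_unique (W : Over V) (h : SH H W) (c : O'.obj.obj (op W.left)) ⦃Z : Over V⦄ (k : Z ⟶ W)
    (t t' : SH H Z) (ht : RepAt φ H (A' := A') W h c k t) (ht' : RepAt φ H (A' := A') W h c k t') : t = t' := by
  obtain ⟨a, ha, rfl⟩ := ht
  obtain ⟨a', ha', rfl⟩ := ht'
  have hd : a - a' ∈ A.ideal Z.left := hinj _ _ (by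
    have := (A'.ideal Z.left).sub_mem ha' ha
    rwa [sub_sub_sub_cancel_left, ← map_sub] at this)
  have h0 := smul_eq_zero_of_mem H hH Z (a - a') hd (res ((fg (O.over V)).obj H) k.op h)
  refine sub_eq_zero.1 ?_
  exact (sub_smul (show (O.over V).obj.obj (op Z) from a) a' (res ((fg (O.over V)).obj H) k.op h)).symm.trans h0

include hH hinj hsurj in
lemma exists_q (W : Over V) (h : SH H W) (c : O'.obj.obj (op W.left)) :
    ∃ y : SH H W, ∀ ⦃Z : Over V⦄ (k : Z ⟶ W) (t : SH H Z), RepAt φ H (A' := A') W h c k t →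
      res ((fg (O.over V)).obj H) k.op y = t := by
  refine SiteMod.mod_exists_glue H (P := RepAt φ H (A' := A') W h c) ?_ (fun Z Z' k l t t' ht ht' => ?_)
    fun Z Z' k l t ht => repAt_res φ H W h c k l t ht
  · obtain ⟨S, hS, hS'⟩ := hsurj W.left c
    refine Loc.mono (over_loc hS) fun Z k hk => ?_
    obtain ⟨a, ha⟩ := hS' k.left hk
    exact ⟨_, a, ha, rfl⟩
  · exact repAt_unique φ H hH hinj W h c (l ≫ k) _ _ (repAt_res φ H W h c k l t ht) ht'

include hH hA hinj hsurj in
/-- Killed modules do not see `O'`. -/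
theorem isIso_eB_killed :
    IsIso ((eB (algV φ V) (bU (alg φ) (algOne φ) V) (bU_res (alg φ) (algOne φ) (algOne_res φ) V)).app H) := by
  choose q hq using exists_q φ H (A := A) (A' := A') hH hinj hsurj
  have loc : ∀ (W : Over V) (c : O'.obj.obj (op W.left)), Loc (J.over V) fun Z (k : Z ⟶ W) =>
      ∃ a : O.obj.obj (op Z.left), (O'.obj.map k.left.op).hom c - (φ.hom.app (op Z.left)).hom a ∈ A'.ideal Z.left :=
    fun W c => by
      obtain ⟨S, hS, hS'⟩ := hsurj W.left c
      exact Loc.mono (over_loc hS) fun Z k hk => hS' k.left hk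
  -- the inverse on sections
  have q_eq : ∀ (W : Over V) (h : SH H W) (c : O'.obj.obj (op W.left)) (y : SH H W),
      (∀ ⦃Z : Over V⦄ (k : Z ⟶ W) (a : O.obj.obj (op Z.left)),
        (O'.obj.map k.left.op).hom c - (φ.hom.app (op Z.left)).hom a ∈ A'.ideal Z.left →
        res ((fg (O.over V)).obj H) k.op y = (show (O.over V).obj.obj (op Z) from a) •
          res ((fg (O.over V)).obj H) k.op h) → q W h c = y := fun W h c y hy =>
    SiteMod.mod_eq_of_loc H (Loc.mono (loc W c) fun Z k ⟨a, ha⟩ => (hq W h c k _ ⟨a, ha, rfl⟩).trans (hy k a ha).symm)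
  have q_spec : ∀ (W : Over V) (h : SH H W) (c : O'.obj.obj (op W.left)) ⦃Z : Over V⦄ (k : Z ⟶ W)
      (a : O.obj.obj (op Z.left)),
      (O'.obj.map k.left.op).hom c - (φ.hom.app (op Z.left)).hom a ∈ A'.ideal Z.left →
        res ((fg (O.over V)).obj H) k.op (q W h c) = (show (O.over V).obj.obj (op Z) from a) •
          res ((fg (O.over V)).obj H) k.op h := fun W h c Z k a ha => hq W h c k _ ⟨a, ha, rfl⟩
  have hadd : ∀ (W : Over V) (h : SH H W) (c c' : O'.obj.obj (op W.left)), q W h (c + c') = q W h c + q W h c' := by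
    intro W h c c'
    refine SiteMod.mod_eq_of_loc H ((loc W c).bind fun Z k ⟨a, ha⟩ =>
      Loc.mono (loc Z ((O'.obj.map k.left.op).hom c')) fun Z' l ⟨a', ha'⟩ => ?_)
    have e1 : (O'.obj.map (l ≫ k).left.op).hom c - (φ.hom.app (op Z'.left)).hom ((O.obj.map l.left.op).hom a) ∈
        A'.ideal Z'.left := by
      have := A'.map_mem l.left ha
      rw [map_sub] at this
      rw [Over.comp_left, op_comp, O'.obj.map_comp]
      rwa [show (φ.hom.app (op Z'.left)).hom ((O.obj.map l.left.op).hom a) =
        (O'.obj.map l.left.op).hom ((φ.hom.app (op Z.left)).hom a) from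
          ConcreteCategory.congr_hom (φ.hom.naturality l.left.op) a]
    have e2 : (O'.obj.map (l ≫ k).left.op).hom c' - (φ.hom.app (op Z'.left)).hom a' ∈ A'.ideal Z'.left := by
      rw [Over.comp_left, op_comp, O'.obj.map_comp]
      exact ha'
    rw [map_add, q_spec W h c (l ≫ k) _ e1, q_spec W h c' (l ≫ k) _ e2,
      q_spec W h (c + c') (l ≫ k) ((O.obj.map l.left.op).hom a + a') (by
        rw [map_add, map_add, add_sub_add_comm]
        exact (A'.ideal Z'.left).add_mem e1 e2)]
    exact add_smul (show (O.over V).obj.obj (op Z') from (O.obj.map l.left.op).hom a) a'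
      (show SH H Z' from res ((fg (O.over V)).obj H) (l ≫ k).op h)
  have hsmul : ∀ (W : Over V) (r : O.obj.obj (op W.left)) (h : SH H W) (c : O'.obj.obj (op W.left)),
      q W ((show (O.over V).obj.obj (op W) from r) • h) c = q W h ((φ.hom.app (op W.left)).hom r * c) := by
    intro W r h c
    refine q_eq W _ c _ fun Z k a ha => ?_
    rw [q_spec W h _ k ((O.obj.map k.left.op).hom r * a) (by
      rw [map_mul, map_mul, show (φ.hom.app (op Z.left)).hom ((O.obj.map k.left.op).hom r) =
        (O'.obj.map k.left.op).hom ((φ.hom.app (op W.left)).hom r) from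
          ConcreteCategory.congr_hom (φ.hom.naturality k.left.op) r, ← mul_sub]
      exact (A'.ideal Z.left).mul_mem_left _ ha), res_smul]
    refine Eq.trans ?_ (mul_smul (show (O.over V).obj.obj (op Z) from a) ((O.obj.map k.left.op).hom r)
      (show SH H Z from res ((fg (O.over V)).obj H) k.op h))
    exact congrArg (fun t : (O.over V).obj.obj (op Z) => t • res ((fg (O.over V)).obj H) k.op h) (mul_comm _ _)
  refine isIso_eB_app _ _ _ H (fun W => ?_) ?_
  · -- injectivity
    let Q : SH H W ⊗[(O.over V).obj.obj (op W)] ((fg (O.over V)).obj (algV φ V)).obj (op W) →+ SH H W :=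
      TensorProduct.liftAddHom (AddMonoidHom.mk' (fun h =>
          AddMonoidHom.mk' (fun c : ((fg (O.over V)).obj (algV φ V)).obj (op W) => q W h c) fun c c' => hadd W h c c')
        fun h h' => AddMonoidHom.ext fun c => q_eq W _ c _ fun Z k a ha => by
          change res ((fg (O.over V)).obj H) k.op (q W h c + q W h' c) = _
          rw [map_add, map_add, q_spec W h c k a ha, q_spec W h' c k a ha]
          exact (smul_add (show (O.over V).obj.obj (op Z) from a) (show SH H Z from res ((fg (O.over V)).obj H) k.op h)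
            (res ((fg (O.over V)).obj H) k.op h')).symm)
      fun r h c => hsmul W r h c
    refine Function.LeftInverse.injective (g := Q) fun x => ?_
    refine q_eq W x 1 x fun Z k a ha => ?_
    rw [map_one, ← map_one (φ.hom.app (op Z.left)).hom, ← map_sub] at ha
    have h0 := smul_eq_zero_of_mem H hH Z _ (hinj _ _ ha) (res ((fg (O.over V)).obj H) k.op x)
    refine ((one_smul ((O.over V).obj.obj (op Z)) _).symm.trans (sub_eq_zero.1 ?_))
    exact (sub_smul (1 : (O.over V).obj.obj (op Z)) a _).symm.trans h0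
  · -- local surjectivity
    let pb := pB (algV φ V) (bU (alg φ) (algOne φ) V) (bU_res (alg φ) (algOne φ) (algOne_res φ) V)
      ((fg (O.over V)).obj H)
    refine { imageSieve_mem := fun {W} s => ?_ }
    suffices hs : Loc (J.over V) fun Z (g : Z ⟶ W) => ∃ t, pb.app (op Z) t = res (PT φ H) g.op s by
      obtain ⟨S, hS, hS'⟩ := hs
      exact (J.over V).superset_covering (fun Z g hg => hS' g hg) hS
    induction s using TensorProduct.induction_on with
    | zero => exact Loc.of_forall fun Z g => ⟨0, (map_zero (pb.app (op Z)).hom).trans (map_zero (res (PT φ H) g.op)).symm⟩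
    | tmul h c =>
      refine (loc W c).bind fun Z k ⟨a, ha⟩ => ?_
      have hz := tpZero_iff_loc φ H Z _ _ (tpZero_of_mem φ H hH hA Z (res ((fg (O.over V)).obj H) k.op h) _ ha)
      refine Loc.mono hz fun Z' l hl => ⟨res ((fg (O.over V)).obj H) l.op
        ((show (O.over V).obj.obj (op Z) from a) • res ((fg (O.over V)).obj H) k.op h), ?_⟩
      refine (res_app pb l.op _).trans ?_
      rw [op_comp, res_comp]
      refine Eq.trans (congrArg (res (PT φ H) l.op) ?_) (sub_eq_zero.1
        (((map_sub (res (PT φ H) l.op) _ _).symm.trans ((congrArg (res (PT φ H) l.op)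
          (TensorProduct.tmul_sub (res ((fg (O.over V)).obj H) k.op h) _ _).symm).trans hl)))).symm
      exact (congrArg (tp φ H Z (res ((fg (O.over V)).obj H) k.op h)) (mul_one _).symm).trans
        (tp_smul φ H Z a _ 1) |>.symm
    | add s t hs ht =>
      refine hs.bind fun Z g ⟨x, hx⟩ => ?_
      obtain ⟨S, hS, hS'⟩ := ht
      refine ⟨S.pullback g, (J.over V).pullback_stable g hS, fun Z' l hl => ?_⟩
      obtain ⟨y, hy⟩ := hS' (l ≫ g) hl
      refine ⟨res ((fg (O.over V)).obj H) l.op x + y, (map_add (pb.app (op Z')).hom _ _).trans ?_⟩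
      refine (congrArg₂ (· + ·) ((res_app pb l.op x).trans ((congrArg (res (PT φ H) l.op) hx).trans
        (res_comp (PT φ H) g.op l.op s).symm)) hy).trans ?_
      exact (map_add (res (PT φ H) (l ≫ g).op) s t).symm

end Groth.Agent.DerCompSec
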