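import Groth.Agent.DerCompSec.Sections
import Groth.Agent.DerCompRHom.Derived
import Groth.Agent.TwoTop.Vanish

/-!
# Derived completeness is local, and extends to tensor products with `O_s`
-/

set_option autoImplicit false
set_option linter.style.haveILetI false

universe u

open CategoryTheory CategoryTheory.Limits Opposite HomologicalComplex

attribute [local instance] HasDerivedCategory.standard

namespace Groth.Agent.DerCompSec

open DerComp Groth.Agent.ModGroth

variable {C : Type u} [SmallCategory C] {J : GrothendieckTopology C} {O : Sheaf J CommRingCat.{u}}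
  (s : GSec O)

/-- The sequence of sections underlying a section of `lim'`. -/
noncomputable def seqOf {M : ModSite.Mod O} {T : C} (z : ModSite.sect ((DerCompRHom.lim' s).obj M) T) (n : ℕ) :
    ModSite.sect M T :=
  ((kernel.ι (DerCompRHom.psi s M) ≫ Pi.π (fun _ : ℕ => M) n).val.app (op T)).hom z

lemma seqOf_succ {M : ModSite.Mod O} {T : C} (z : ModSite.sect ((DerCompRHom.lim' s).obj M) T) (n : ℕ) :
    seqOf s z n = sm T (s.1 T) M (seqOf s z (n + 1)) := by
  have h := kernel.condition (DerCompRHom.psi s M) =≫ Pi.π (fun _ : ℕ => M) n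
  rw [Category.assoc, DerCompRHom.psi_π, Preadditive.comp_sub, zero_comp, sub_eq_zero, ← Category.assoc] at h
  exact congrArg (fun a => (a.val.app (op T)).hom z) h

lemma seqOf_free {M : ModSite.Mod O} {T : C} (a : ModSite.freeOn O T ⟶ (DerCompRHom.lim' s).obj M) (n : ℕ) :
    seqOf s (FreeOn.homEquiv O T _ a) n =
      FreeOn.homEquiv O T M (a ≫ kernel.ι (DerCompRHom.psi s M) ≫ Pi.π (fun _ : ℕ => M) n) :=
  (FreeOn.homEquiv_comp O T a _).symm

lemma seqOf_injective {M : ModSite.Mod O} {T : C} {z z' : ModSite.sect ((DerCompRHom.lim' s).obj M) T}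
    (h : ∀ n, seqOf s z n = seqOf s z' n) : z = z' := by
  obtain ⟨a, rfl⟩ := (FreeOn.homEquiv O T _).surjective z
  obtain ⟨a', rfl⟩ := (FreeOn.homEquiv O T _).surjective z'
  refine congrArg _ ((cancel_mono (kernel.ι (DerCompRHom.psi s M))).1 (Pi.hom_ext _ _ fun n => ?_))
  have := h n
  rw [seqOf_free, seqOf_free] at this
  rw [Category.assoc, Category.assoc]
  exact (FreeOn.homEquiv O T M).injective this

lemma exists_seqOf {M : ModSite.Mod O} {T : C} (x : ℕ → ModSite.sect M T)
    (hx : ∀ n, x n = sm T (s.1 T) M (x (n + 1))) :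
    ∃ z : ModSite.sect ((DerCompRHom.lim' s).obj M) T, ∀ n, seqOf s z n = x n := by
  let a : ℕ → (ModSite.freeOn O T ⟶ M) := fun n => (FreeOn.homEquiv O T M).symm (x n)
  have ha : ∀ n, a n = smulEnd s _ ≫ a (n + 1) := fun n => by
    apply (FreeOn.homEquiv O T M).injective
    rw [smulEnd_comm, FreeOn.homEquiv_comp, Equiv.apply_symm_apply, Equiv.apply_symm_apply]
    exact hx n
  refine ⟨FreeOn.homEquiv O T _ (kernel.lift _ (Pi.lift a) (DerCompRHom.psi_lift_zero s a ha) :
    ModSite.freeOn O T ⟶ (DerCompRHom.lim' s).obj M), fun n => ?_⟩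
  refine (seqOf_free s _ n).trans ?_
  refine (congrArg (FreeOn.homEquiv O T M) ?_).trans ((FreeOn.homEquiv O T M).apply_symm_apply (x n))
  exact (kernel.lift_ι_assoc _ _ _ _).trans (Pi.lift_π a n)

lemma seqOf_map {M N : ModSite.Mod O} (g : M ⟶ N) {T : C}
    (z : ModSite.sect ((DerCompRHom.lim' s).obj M) T) (n : ℕ) :
    seqOf s (((DerCompRHom.lim' s).map g).val.app (op T) z) n = g.val.app (op T) (seqOf s z n) := by
  have h : (DerCompRHom.lim' s).map g ≫ kernel.ι (DerCompRHom.psi s N) ≫ Pi.π (fun _ : ℕ => N) n =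
      (kernel.ι (DerCompRHom.psi s M) ≫ Pi.π (fun _ : ℕ => M) n) ≫ g := by
    simp [DerCompRHom.lim']
  exact congrArg (fun a => (a.val.app (op T)).hom z) h

/-- Restriction of sections. -/
noncomputable def rsec (M : ModSite.Mod O) {T T' : C} (k : T' ⟶ T) (x : ModSite.sect M T) : ModSite.sect M T' :=
  (M.val.map k.op).hom x

lemma seqOf_res {M : ModSite.Mod O} {T T' : C} (k : T' ⟶ T)
    (z : ModSite.sect ((DerCompRHom.lim' s).obj M) T) (n : ℕ) :
    seqOf s (rsec ((DerCompRHom.lim' s).obj M) k z) n = rsec M k (seqOf s z n) :=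
  PresheafOfModules.naturality_apply
    (kernel.ι (DerCompRHom.psi s M) ≫ Pi.π (fun _ : ℕ => M) n).val k.op z

variable (I : CochainComplex (ModSite.Mod O) ℤ)

/-- Local completeness makes `lim' I` acyclic. -/
theorem acyclic_limCx
    (h : ∀ T : C, ∃ S ∈ J T, ∀ ⦃V : C⦄ (g : V ⟶ T), S g → GoodL I V (s.1 V)) :
    (DerCompRHom.limCx s I).Acyclic := by
  intro j
  refine (HomologicalComplex.exactAt_iff' _ (j - 1) j (j + 1) (by simp) (by simp)).2 ?_
  refine (ShortComplex.exact_map_iff_of_faithful _ (SheafOfModules.toSheaf (ModSite.ringSh O))).1 ?_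
  refine TwoTop.exact_of_local _ fun T x hx => ?_
  let z : ModSite.sect ((DerCompRHom.lim' s).obj (I.X j)) T := x
  have hz : ∀ n, (I.d j (j + 1)).val.app (op T) (seqOf s z n) = 0 := fun n => by
    rw [← seqOf_map]
    refine (congrArg (seqOf s · n) (hx : ((DerCompRHom.lim' s).map (I.d j (j + 1))).val.app (op T) z = 0)).trans ?_
    exact map_zero _
  obtain ⟨S, hS, hgood⟩ := h T
  refine ⟨S, hS, fun V g hg => ?_⟩
  obtain ⟨y, hy1, hy2⟩ := hgood g hg (j - 1) j (j + 1) (by omega) rfl
    (fun n => rsec (I.X j) g (seqOf s z n))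
    (fun n => by
      dsimp only
      rw [← seqOf_res, ← seqOf_res]
      exact seqOf_succ s _ n)
    (fun n => by
      refine (PresheafOfModules.naturality_apply (I.d j (j + 1)).val g.op (seqOf s z n)).trans ?_
      rw [hz n, map_zero]
      rfl)
  obtain ⟨w, hw⟩ := exists_seqOf s y hy1
  refine ⟨w, ?_⟩
  change ((DerCompRHom.lim' s).map (I.d (j - 1) j)).val.app (op V) w =
    rsec ((DerCompRHom.lim' s).obj (I.X j)) g z
  refine seqOf_injective s fun n => ?_
  rw [seqOf_map, seqOf_res, hw]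
  exact hy2 n

variable [I.IsKInjective]

lemma isKInjective_limCx : (DerCompRHom.limCx s I).IsKInjective :=
  TriH.isKInjective_map_of_adjunction _ _ (DerCompRHom.adj s) I

lemma nonempty_contraction
    (h : ∀ T : C, ∃ S ∈ J T, ∀ ⦃V : C⦄ (g : V ⟶ T), S g → GoodL I V (s.1 V)) :
    Nonempty (Homotopy (𝟙 (DerCompRHom.limCx s I)) 0) :=
  (isKInjective_limCx s I).nonempty_homotopy_zero _ (acyclic_limCx s I h)

/-- Completeness is local. -/
theorem goodL_of_local
    (h : ∀ T : C, ∃ S ∈ J T, ∀ ⦃V : C⦄ (g : V ⟶ T), S g → GoodL I V (s.1 V)) (T : C) :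
    GoodL I T (s.1 T) := by
  obtain ⟨H⟩ := nonempty_contraction s I h
  intro i j k hij hjk x hx hd
  obtain ⟨z, hz⟩ := exists_seqOf s x hx
  have hdz : ((DerCompRHom.lim' s).map (I.d j k)).val.app (op T) z = 0 := seqOf_injective s fun n => by
    rw [seqOf_map, hz]
    exact (hd n).trans (map_zero _).symm
  let w : ModSite.sect ((DerCompRHom.lim' s).obj (I.X i)) T := (H.hom j i).val.app (op T) z
  refine ⟨fun n => seqOf s w n, fun n => seqOf_succ s w n, fun n => ?_⟩
  have hcomm : 𝟙 ((DerCompRHom.limCx s I).X j) =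
      (DerCompRHom.limCx s I).d j k ≫ H.hom k j + H.hom j i ≫ (DerCompRHom.limCx s I).d i j := by
    have := H.comm j
    rwa [dNext_eq _ (show (ComplexShape.up ℤ).Rel j k from hjk),
      prevD_eq _ (show (ComplexShape.up ℤ).Rel i j from hij), zero_f, add_zero, id_f] at this
  let p₁ : ModSite.sect ((DerCompRHom.lim' s).obj (I.X j)) T :=
    (H.hom k j).val.app (op T) (((DerCompRHom.lim' s).map (I.d j k)).val.app (op T) z)
  let p₂ : ModSite.sect ((DerCompRHom.lim' s).obj (I.X j)) T :=
    ((DerCompRHom.lim' s).map (I.d i j)).val.app (op T) w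
  have h1 : z = p₁ + p₂ :=
    congrArg (fun a => (a.val.app (op T)).hom z) hcomm
  rw [show p₁ = 0 from (congrArg ((H.hom k j).val.app (op T)) hdz).trans (map_zero _), zero_add] at h1
  refine (seqOf_map s (I.d i j) w n).symm.trans ?_
  rw [show ((DerCompRHom.lim' s).map (I.d i j)).val.app (op T) w = z from h1.symm, hz]

/-- Nothing maps from `Y ⊗ O_s` to a complete object. -/
theorem eq_zero_of_tensor_away
    (h : ∀ T : C, ∃ S ∈ J T, ∀ ⦃V : C⦄ (g : V ⟶ T), S g → GoodL I V (s.1 V))
    {Y : CochainComplex (ModSite.Mod O) ℤ}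
    (a : DerivedCategory.Q.obj (((tR (DerCompRHom.Os s)).mapHomologicalComplex (ComplexShape.up ℤ)).obj Y) ⟶
      DerivedCategory.Q.obj I) : a = 0 := by
  obtain ⟨φ, rfl⟩ := TriH.Q_map_surjective_of_isKInjective _ I a
  rw [TriH.Q_map_eq_zero_iff_of_isKInjective]
  obtain ⟨H⟩ := nonempty_contraction s I h
  let ψ : Y ⟶ DerCompRHom.limCx s I :=
    DerCompRHom.unitCx s Y ≫ ((DerCompRHom.lim' s).mapHomologicalComplex (ComplexShape.up ℤ)).map φ
  have hψ : ((tR (DerCompRHom.Os s)).mapHomologicalComplex (ComplexShape.up ℤ)).map ψ ≫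
      DerCompRHom.counitCx s I = φ := by
    refine HomologicalComplex.hom_ext _ _ fun n => ?_
    change (tR _).map ((DerCompRHom.adj s).unit.app (Y.X n) ≫ (DerCompRHom.lim' s).map (φ.f n)) ≫
      (DerCompRHom.adj s).counit.app (I.X n) = φ.f n
    exact ((congrArg ((DerCompRHom.adj s).homEquiv (Y.X n) (I.X n)).symm
      ((DerCompRHom.adj s).homEquiv_unit (Y.X n) (I.X n) (φ.f n))).trans
        ((DerCompRHom.adj s).homEquiv_counit _ _ _)).symm.trans
          (((DerCompRHom.adj s).homEquiv (Y.X n) (I.X n)).symm_apply_apply (φ.f n))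
  have H' : Homotopy ψ 0 := (Homotopy.ofEq (by simp)).trans ((H.compLeft ψ).trans (Homotopy.ofEq (by simp)))
  exact ⟨(Homotopy.ofEq hψ.symm).trans
    ((((tR (DerCompRHom.Os s)).mapHomotopy H').compRight (DerCompRHom.counitCx s I)).trans
      (Homotopy.ofEq (by simp)))⟩

end Groth.Agent.DerCompSec
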