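import Groth.Agent.DerCompSec.Glue

/-!
# The ideal of sections along which an object is derived complete
-/

set_option autoImplicit false
set_option linter.style.haveILetI false

universe u

open CategoryTheory CategoryTheory.Limits Opposite HomologicalComplex

attribute [local instance] HasDerivedCategory.standard

namespace Groth.Agent.DerCompSec

open DerComp

variable {C : Type u} [SmallCategory C] {J : GrothendieckTopology C} {O : Sheaf J CommRingCat.{u}}

/-- `I|_U`. -/
noncomputable abbrev restrCx (U : C) (I : CochainComplex (ModSite.Mod O) ℤ) :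
    CochainComplex (ModSite.Mod (O.over U)) ℤ :=
  ((ModSite.restr O U).mapHomologicalComplex (ComplexShape.up ℤ)).obj I

lemma goodL_restr {U : C} (I : CochainComplex (ModSite.Mod O) ℤ) (f : O.obj.obj (op U)) (T : Over U) :
    GoodL (restrCx U I) T ((GSec.ofSect O U f).1 T) ↔ GoodL I T.left ((O.obj.map T.hom.op).hom f) :=
  Iff.rfl

variable (I : CochainComplex (ModSite.Mod O) ℤ) [I.IsKInjective]

lemma local_restr {U : C} (f : O.obj.obj (op U)) {S : Sieve U} (hS : S ∈ J U)
    (h : ∀ ⦃V : C⦄ (g : V ⟶ U), S g → GoodL I V ((O.obj.map g.op).hom f)) (T : Over U) :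
    ∃ S' ∈ J.over U T, ∀ ⦃V : Over U⦄ (g : V ⟶ T), S' g →
      GoodL (restrCx U I) V ((GSec.ofSect O U f).1 V) := by
  refine ⟨(Sieve.overEquiv T).symm (S.pullback T.hom), ?_, fun V g hg => ?_⟩
  · rw [GrothendieckTopology.mem_over_iff, OrderIso.apply_symm_apply]
    exact J.pullback_stable _ hS
  · rw [goodL_restr]
    refine h V.hom ?_
    have h1 : S.arrows (g.left ≫ T.hom) := hg
    rwa [Over.w] at h1

/-- Completeness at `(U, f)` is local on `U`. -/
theorem goodL_of_cover {U : C} (f : O.obj.obj (op U)) {S : Sieve U} (hS : S ∈ J U)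
    (h : ∀ ⦃V : C⦄ (g : V ⟶ U), S g → GoodL I V ((O.obj.map g.op).hom f)) : GoodL I U f := by
  have := isKInjective_restr O U I
  have h1 := goodL_of_local (GSec.ofSect O U f) (restrCx U I) (local_restr I f hS h) (Over.mk (𝟙 U))
  rw [goodL_restr] at h1
  have h2 : (O.obj.map (Over.mk (𝟙 U)).hom.op).hom f = f := map_id_apply O U f
  rwa [h2] at h1

variable (hinj : ∀ m, Injective (I.X m))

include hinj in
lemma goodH_of_cover {U : C} (f : O.obj.obj (op U)) {S : Sieve U} (hS : S ∈ J U)
    (h : ∀ ⦃V : C⦄ (g : V ⟶ U), S g → GoodH I V ((O.obj.map g.op).hom f)) : GoodH I U f :=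
  (goodL_iff_goodH O I hinj U f).1
    (goodL_of_cover I f hS fun V g hg => (goodL_iff_goodH O I hinj V _).2 (h g hg))

lemma map_map_apply {U V W : C} (g : V ⟶ U) (k : W ⟶ V) (f : O.obj.obj (op U)) :
    (O.obj.map k.op).hom ((O.obj.map g.op).hom f) = (O.obj.map (k ≫ g).op).hom f := by
  rw [op_comp, O.obj.map_comp]; rfl

/-- The sections `f` along which the complex is derived complete on every `V → U`. -/
noncomputable def goodIdeal : IdealSh O where
  ideal U :=
    { carrier := {f | ∀ (V : C) (g : V ⟶ U), GoodH I V ((O.obj.map g.op).hom f)}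
      add_mem' := fun {a b} ha hb V g => by rw [map_add]; exact (ha V g).add (hb V g)
      zero_mem' := fun V g => by rw [map_zero]; exact isC_Hmap_sm_zero I V
      smul_mem' := fun a f hf V g => by rw [smul_eq_mul, map_mul]; exact (hf V g).mul_left _ }
  map_mem {U V} g {f} hf W k := by rw [map_map_apply]; exact hf W (k ≫ g)
  glue {U f} S hS h V g := by
    refine goodH_of_cover I hinj _ (J.pullback_stable g hS) fun W k hk => ?_
    rw [map_map_apply]
    have := h (k ≫ g) hk W (𝟙 W)
    rwa [map_id_apply] at this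

lemma mem_goodIdeal_iff {U : C} (f : O.obj.obj (op U)) :
    f ∈ (goodIdeal I hinj).ideal U ↔ ∀ (V : C) (g : V ⟶ U), GoodH I V ((O.obj.map g.op).hom f) := Iff.rfl

variable {K : DerivedCategory (ModSite.Mod O)}

include hinj in
lemma good_iff_goodH (e : DerivedCategory.Q.obj I ≅ K) (V : C) (f : O.obj.obj (op V)) :
    (∀ n : ℤ, Subsingleton (SiteCmp.inD O ((ModSite.extZero O V).obj (awayOver O V f)) ⟶ K⟦n⟧)) ↔
      GoodH I V f :=
  (good_iff O I e V f).trans (goodL_iff_goodH O I hinj V f)

/-- Derived completeness means lying in the ideal of good sections. -/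
theorem isDerComp_iff_le (e : DerivedCategory.Q.obj I ≅ K) (A : IdealSh O) :
    IsDerComp O A K ↔ A ≤ goodIdeal I hinj :=
  ⟨fun h _ _ hf V g => (good_iff_goodH I hinj e V _).1 fun n => h V _ (A.map_mem g hf) n,
    fun h U f hf => (good_iff_goodH I hinj e U f).2 (by
      have := h U hf U (𝟙 U)
      rwa [map_id_apply] at this)⟩

omit [I.IsKInjective] in
/-- Every object has a K-injective model with injective terms. -/
lemma exists_model (K : DerivedCategory (ModSite.Mod O)) :
    ∃ I : CochainComplex (ModSite.Mod O) ℤ, I.IsKInjective ∧ (∀ m, Injective (I.X m)) ∧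
      Nonempty (DerivedCategory.Q.obj I ≅ K) := by
  haveI := ModGroth.sheaf_isGrothendieckAbelian (ModSite.ringSh O)
  obtain ⟨I, r, hI, hr, -, hinj⟩ := TriH.exists_kInjective_resolution (DerivedCategory.Q.objPreimage K)
  haveI := hr
  exact ⟨I, hI, hinj,
    ⟨(asIso (DerivedCategory.Q.map r)).symm ≪≫ DerivedCategory.Q.objObjPreimageIso K⟩⟩

end Groth.Agent.DerCompSec
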